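import Cfsg.Agent.Lib.SUExt.Geom

/-!
An element mapping every isotropic line onto a line is semilinear.
-/

set_option autoImplicit false
set_option linter.unusedSectionVars false
set_option linter.style.haveILetI false

namespace Cfsg.Agent.Lib.SUExt

open Module Matrix Cfsg.Agent.Lib

variable {F : Type*} [Field F] [Fintype F] {E : Type*} [Field E] [Algebra F E] [Finite E] {n q : ℕ}
  [Module E (Fin n → F)] [IsScalarTower F E (Fin n → F)]

local notation "Vs" => (Fin n → F)
local notation "Ms" => Matrix (Fin n) (Fin n) F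

theorem exists_semilinear (D : HData (F := F) (n := n) E q) (hd : 2 ≤ finrank E Vs) (g : GL (Fin n) F)
    (hline : ∀ (v : Vs) (e : E), D.BE v v = 0 → ∃ f : E, (g : Ms) *ᵥ (e • v) = f • ((g : Ms) *ᵥ v)) :
    ∀ e : E, ∃ f : E, ∀ x : Vs, (g : Ms) *ᵥ (e • x) = f • ((g : Ms) *ᵥ x) := by
  haveI : FiniteDimensional E Vs := Module.Finite.of_finite
  have hinj : Function.Injective fun x : Vs => (g : Ms) *ᵥ x := fun a b e => by
    simpa [UnitaryMax.inv_mulVec_mulVec] using congrArg (((g⁻¹ : GL (Fin n) F) : Ms) *ᵥ ·) e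
  have hg0 : ∀ {v : Vs}, v ≠ 0 → (g : Ms) *ᵥ v ≠ 0 := fun hv h => hv (hinj (by simpa using h))
  choose φ hφ using hline
  have huniq : ∀ {v : Vs} (hv : D.BE v v = 0) (e f : E), v ≠ 0 →
      (g : Ms) *ᵥ (e • v) = f • ((g : Ms) *ᵥ v) → φ v e hv = f := fun {v} hv e f hv0 h =>
    smul_left_injective E (hg0 hv0) ((hφ v e hv).symm.trans h)
  -- lines map onto lines
  have hind : ∀ {v w : Vs} (hv : D.BE v v = 0), v ≠ 0 → (∀ f : E, w ≠ f • v) →
      ∀ f : E, (g : Ms) *ᵥ w ≠ f • ((g : Ms) *ᵥ v) := by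
    intro v w hv hv0 hw f hf
    have hL : Function.Injective fun e => φ v e hv := fun a b hab => by
      have h1 : (g : Ms) *ᵥ (a • v) = (g : Ms) *ᵥ (b • v) := by rw [hφ v a hv, hφ v b hv]; exact congrArg (· • _) hab
      exact smul_left_injective E hv0 (hinj h1)
    obtain ⟨e', he'⟩ := Finite.surjective_of_injective hL f
    exact hw e' (hinj (show (g : Ms) *ᵥ w = (g : Ms) *ᵥ (e' • v) by
      rw [hf, hφ v e' hv]; exact congrArg (· • _) he'.symm))
  have hsame : ∀ {v w : Vs} (hv : D.BE v v = 0) (hw : D.BE w w = 0) (hvw : D.BE (v + w) (v + w) = 0),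
      v ≠ 0 → (∀ f : E, w ≠ f • v) → ∀ e, φ v e hv = φ w e hw := by
    intro v w hv hw hvw hv0 hne e
    have h1 := hφ (v + w) e hvw
    rw [smul_add, mulVec_add, mulVec_add, smul_add, hφ v e hv, hφ w e hw] at h1
    have h2 : (φ w e hw - φ (v + w) e hvw) • ((g : Ms) *ᵥ w) = (φ (v + w) e hvw - φ v e hv) • ((g : Ms) *ᵥ v) := by
      rw [sub_smul, sub_smul, sub_eq_sub_iff_add_eq_add, add_comm ((φ w e hw) • _), h1, add_comm]
    have h3 : φ w e hw - φ (v + w) e hvw = 0 := by
      by_contra h3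
      exact hind hv hv0 hne ((φ w e hw - φ (v + w) e hvw)⁻¹ * (φ (v + w) e hvw - φ v e hv))
        (by rw [mul_smul, ← h2, smul_smul, inv_mul_cancel₀ h3, one_smul])
    rw [h3, zero_smul, eq_comm, smul_eq_zero] at h2
    exact (sub_eq_zero.mp (h2.resolve_right (hg0 hv0))).symm.trans (sub_eq_zero.mp h3).symm
  obtain ⟨u, hu0, hu⟩ := D.exists_isotropic hd
  let ψ : E → E := fun e => φ u e hu
  let Q : Submodule F Vs :=
    { carrier := {x | ∀ e, (g : Ms) *ᵥ (e • x) = ψ e • ((g : Ms) *ᵥ x)}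
      add_mem' := fun {x y} hx hy e => by rw [smul_add, mulVec_add, hx, hy, mulVec_add, smul_add]
      zero_mem' := fun e => by simp
      smul_mem' := fun c x hx e => by rw [smul_comm e c x, mulVec_smul, hx, mulVec_smul, smul_comm (ψ e)] }
  have memQ : ∀ {x : Vs}, x ∈ Q ↔ ∀ e, (g : Ms) *ᵥ (e • x) = ψ e • ((g : Ms) *ᵥ x) := Iff.rfl
  have huQ : u ∈ Q := memQ.mpr fun e => hφ u e hu
  -- a line with one member in `Q` and a skew-paired isotropic line
  have hskew : ∀ {v z : Vs} (hv : D.BE v v = 0), v ≠ 0 → v ∈ Q → D.BE z z = 0 → D.BE v z ≠ 0 →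
      ∀ s : E, D.BE v (s • z) ∈ D.skew → s • z ∈ Q := by
    intro v z hv hv0 hvQ hz hvz s hs
    rcases eq_or_ne s 0 with rfl | hs0
    · rw [zero_smul]; exact Q.zero_mem
    have hsz : D.BE (s • z) (s • z) = 0 := by rw [D.BE_smul_left, D.BE_smul_right, hz, mul_zero, mul_zero]
    have hsum : D.BE (v + s • z) (v + s • z) = 0 := by
      rw [D.BE_add_left, D.BE_add_right, D.BE_add_right, hv, hsz, D.BE_conj v (s • z), D.mem_skew.mp hs]
      ring
    refine memQ.mpr fun e => ?_
    rw [hφ (s • z) e hsz, ← hsame hv hsz hsum hv0 (fun f hf => hvz ?_) e, huniq hv e (ψ e) hv0 (memQ.mp hvQ e)]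
    have h := congrArg (D.BE v) hf
    rw [D.BE_smul_right, D.BE_smul_right, hv, mul_zero] at h
    exact (mul_eq_zero.mp h).resolve_left (D.cj_ne_zero hs0)
  have hline' : ∀ {v z : Vs} (hv : D.BE v v = 0), v ≠ 0 → v ∈ Q → D.BE z z = 0 → D.BE v z ≠ 0 →
      ∀ x : E, x • z ∈ Q := by
    intro v z hv hv0 hvQ hz hvz x
    have hcb : cj F q (D.BE v z) ≠ 0 := D.cj_ne_zero hvz
    let C : Submodule F E :=
      { carrier := {y | (y / cj F q (D.BE v z)) • z ∈ Q}
        add_mem' := fun {a b} ha hb => by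
          simp only [Set.mem_setOf_eq] at ha hb ⊢
          rw [add_div, add_smul]; exact Q.add_mem ha hb
        zero_mem' := by
          simp only [Set.mem_setOf_eq]
          rw [zero_div, zero_smul]; exact Q.zero_mem
        smul_mem' := fun c a ha => by
          simp only [Set.mem_setOf_eq] at ha ⊢
          rw [smul_div_assoc, smul_assoc]; exact Q.smul_mem c ha }
    have h := D.top_of_skew C (fun a ha => hskew hv hv0 hvQ hz hvz _ (by
      rw [D.BE_smul_right, div_eq_mul_inv, D.cj_mul, D.cj_inv, D.cj_cj, mul_assoc, inv_mul_cancel₀ hvz, mul_one,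
        D.mem_skew.mp ha]
      exact neg_mem ha)) (x * cj F q (D.BE v z))
    have h' : ((x * cj F q (D.BE v z)) / cj F q (D.BE v z)) • z ∈ Q := h
    rwa [mul_div_assoc, div_self hcb, mul_one] at h'
  obtain ⟨z, hz, huz⟩ := D.exists_partner hu0 hu
  have hz0 : z ≠ 0 := fun e => zero_ne_one (α := E) (by rw [← huz, e, D.BE_zero_right])
  have hzQ : z ∈ Q := by
    have := hline' hu hu0 huQ hz (by rw [huz]; exact one_ne_zero) 1
    rwa [one_smul] at this
  have huE : ∀ x : E, x • u ∈ Q := hline' hz hz0 hzQ hu (by rw [D.BE_conj, huz, D.cj_one]; exact one_ne_zero)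
  have hiso : ∀ w : Vs, D.BE w w = 0 → ∀ x : E, x • w ∈ Q := by
    intro w hw x
    by_cases h1 : D.BE u w = 0
    swap
    · exact hline' hu hu0 huQ hw h1 x
    by_cases hd' : ∀ f : E, x • w ≠ f • u
    · have hxw : D.BE (x • w) (x • w) = 0 := by rw [D.BE_smul_left, D.BE_smul_right, hw, mul_zero, mul_zero]
      have hsum : D.BE (u + x • w) (u + x • w) = 0 := by
        rw [D.BE_add_left, D.BE_add_right, D.BE_add_right, hu, hxw, D.BE_conj u (x • w), D.BE_smul_right, h1,
          mul_zero, D.cj_zero]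
        ring
      exact memQ.mpr fun e => by rw [hφ _ e hxw, ← hsame hu hxw hsum hu0 hd' e]
    · push Not at hd'
      obtain ⟨f, hf⟩ := hd'
      rw [hf]; exact huE f
  intro e
  refine ⟨ψ e, fun x => ?_⟩
  have key : ∀ a : E, a • x ∈ Q := by
    have hx := D.span_isotropic hd x
    induction hx using Submodule.span_induction with
    | mem w hw => exact hiso w hw
    | zero => intro a; rw [smul_zero]; exact Q.zero_mem
    | add y y' _ _ hy hy' => intro a; rw [smul_add]; exact Q.add_mem (hy a) (hy' a)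
    | smul c y _ hy => intro a; rw [smul_smul]; exact hy _
  have h := memQ.mp (key 1) e
  rwa [one_smul] at h

end Cfsg.Agent.Lib.SUExt
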