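import Cfsg.Agent.Lib.SUExt.Full
import Cfsg.Agent.Lib.SUExt.Semi

/-!
The normaliser of an adjoint-closed field of degree three or five is maximal in the special unitary group,
when the space has dimension at least two over it.
-/

set_option autoImplicit false
set_option linter.unusedSectionVars false
set_option linter.style.haveILetI false

namespace Cfsg.Agent.Lib.SUExt

open Module Matrix Cfsg.Agent.Lib

variable {F : Type*} [Field F] [Fintype F] {n q : ℕ}

local notation "Vs" => (Fin n → F)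
local notation "Ms" => Matrix (Fin n) (Fin n) F

theorem isMaximalIn_fieldNormalizer_gen (hF : Fintype.card F = q ^ 2) (r : ℕ) (hr : r = 3 ∨ r = 5) (hn : 2 * r ≤ n)
    (hn3 : n ≠ 3 * r) (hbig : (r = 5 ∨ (r = 3 ∧ 3 ≤ q)) ∨ 4 * r ≤ n) (K : Subalgebra F Ms) (hK : Cfsg.Geo.IsFieldSubalgebra r K)
    (hac : Cfsg.Geo.IsAdjointClosedFor (Cfsg.hermForm n F q) K) :
    Cfsg.Geo.IsMaximalIn (UnitaryMax.suGL n F q) (Cfsg.Geo.subalgebraNormalizer K ⊓ UnitaryMax.suGL n F q) := by
  classical
  have hrp : r.Prime := by rcases hr with rfl | rfl <;> norm_num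
  have hr3 : 3 ≤ r := by omega
  let i0 : Fin n := ⟨0, by omega⟩
  haveI : Nontrivial K := ⟨⟨1, 0, fun h => by
    have := congrArg (fun a : K => (a : Ms) i0 i0) h
    simp at this⟩⟩
  letI fK : Field K :=
    IsField.toField
      { exists_pair_ne := exists_pair_ne K
        mul_comm := fun x y => Subtype.ext (hK.comm x x.2 y y.2)
        mul_inv_cancel := fun {x} hx => by
          obtain ⟨y, hy, hxy⟩ := hK.inv x x.2 (fun h => hx (Subtype.ext h))
          exact ⟨⟨y, hy⟩, Subtype.ext hxy⟩ }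
  letI mK : Module K Vs :=
    { smul := fun a v => (a : Ms) *ᵥ v
      one_smul := fun v => Matrix.one_mulVec v
      mul_smul := fun a b v => (Matrix.mulVec_mulVec v _ _).symm
      smul_zero := fun a => Matrix.mulVec_zero _
      zero_smul := fun v => Matrix.zero_mulVec v
      smul_add := fun a v w => Matrix.mulVec_add _ v w
      add_smul := fun a b v => Matrix.add_mulVec _ _ v }
  haveI hT : IsScalarTower F K Vs := ⟨fun c a v => Matrix.smul_mulVec c _ v⟩
  haveI : Finite K := Finite.of_injective _ Subtype.val_injective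
  haveI : FiniteDimensional K Vs := Module.Finite.of_finite
  have hsm : ∀ (k : K) (v : Vs), k • v = (k : Ms) *ᵥ v := fun k v => rfl
  have hrK : Module.finrank F K = r := hK.finrank_eq
  have hdim : r * finrank K Vs = n := by
    rw [← hrK, Module.finrank_mul_finrank, Module.finrank_fintype_fun_eq_card, Fintype.card_fin]
  -- the adjoint
  have hadj' : ∀ k : K, ∃ k' : K, ∀ u v : Vs, Cfsg.hermForm n F q (k • u) v = Cfsg.hermForm n F q u (k' • v) := by
    intro k
    obtain ⟨k', hk', h⟩ := hac k k.2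
    exact ⟨⟨k', hk'⟩, h⟩
  choose ψ hψ using hadj'
  have huniq : ∀ a b : K, (∀ u v : Vs, Cfsg.hermForm n F q u (a • v) = Cfsg.hermForm n F q u (b • v)) → a = b := by
    intro a b h
    by_contra hne
    have hv0 : (Pi.single i0 1 : Vs) ≠ 0 := by simp
    have h1 : (a - b) • (Pi.single i0 1 : Vs) ≠ 0 := smul_ne_zero (sub_ne_zero.mpr hne) hv0
    obtain ⟨u, hu⟩ := UnitaryMax.exists_h_ne hF h1
    refine hu (UnitaryMax.h_symm hF ?_)
    rw [sub_smul, UnitaryMax.h_sub_right hF, h u, sub_self]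
  have hψmul : ∀ a b, ψ (a * b) = ψ a * ψ b := fun a b => huniq _ _ fun u v => by
    rw [← hψ, mul_comm a b, mul_smul, hψ, hψ, ← mul_smul, mul_comm (ψ a)]
  have hψadd : ∀ a b, ψ (a + b) = ψ a + ψ b := fun a b => huniq _ _ fun u v => by
    rw [← hψ, add_smul, add_smul, Forms.herm_add_left hF, Forms.herm_add_right hF, hψ, hψ]
  have hψalg : ∀ c : F, ψ (algebraMap F K c) = algebraMap F K (c ^ q) := fun c => huniq _ _ fun u v => by
    rw [← hψ, algebraMap_smul, algebraMap_smul, Forms.herm_smul_left hF, Forms.herm_smul_right hF,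
      Forms.pow_q_pow_q hF]
  have hψψ : ∀ a, ψ (ψ a) = a := fun a => huniq _ _ fun u v => by
    rw [← hψ, ← Forms.herm_conj hF v, ← hψ, Forms.herm_conj hF]
  have hψone : ψ 1 = 1 := huniq _ _ fun u v => by rw [← hψ, one_smul, one_smul]
  let ψh : K →+* K :=
    { toFun := ψ
      map_one' := hψone
      map_mul' := hψmul
      map_zero' := by
        have := hψalg 0
        rwa [map_zero, zero_pow (by have := Forms.two_le_of_card_sq hF; omega), map_zero] at this
      map_add' := hψadd }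
  have hpow : ∀ (c : F), c ^ (q ^ r) = c ^ q := by
    intro c
    have h : ∀ i, c ^ (q ^ (2 * i + 1)) = c ^ q := fun i => by
      induction i with
      | zero => simp
      | succ i ih =>
        rw [show 2 * (i + 1) + 1 = (2 * i + 1) + 1 + 1 by ring, pow_succ, pow_mul, pow_succ, pow_mul, ih,
          Forms.pow_q_pow_q hF]
    rcases hr with rfl | rfl
    · exact h 1
    · exact h 2
  have hcardK : Nat.card K = (q ^ r) ^ 2 := by
    rw [Module.natCard_eq_pow_finrank (K := F), hrK, Nat.card_eq_fintype_card, hF, ← pow_mul, ← pow_mul, mul_comm]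
  haveI := Fintype.ofFinite K
  obtain ⟨fr, hfr⟩ := Forms.exists_qPow (F := K) (q := q ^ r) (by rw [← Nat.card_eq_fintype_card, hcardK])
  let Φ : K →ₐ[F] K :=
    { fr.comp ψh with
      commutes' := fun c => by
        show fr (ψ (algebraMap F K c)) = _
        rw [hfr, hψalg, ← map_pow, hpow, Forms.pow_q_pow_q hF] }
  let Φe : K ≃ₐ[F] K :=
    AlgEquiv.ofBijective Φ ⟨Φ.toRingHom.injective, Finite.surjective_of_injective Φ.toRingHom.injective⟩
  have hΦ2 : Φe * Φe = 1 := AlgEquiv.ext fun x => by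
    show fr (ψ (fr (ψ x))) = x
    rw [hfr, hfr, show ψ ((ψ x) ^ q ^ r) = ψh ((ψh x) ^ q ^ r) from rfl, map_pow,
      show ψh (ψh x) = x from hψψ x, Forms.pow_q_pow_q (by rw [← Nat.card_eq_fintype_card, hcardK])]
  have hΦ1 : Φe = 1 := by
    have h1 : orderOf Φe ∣ 2 := orderOf_dvd_of_pow_eq_one (by rw [pow_two, hΦ2])
    have h2 : orderOf Φe ∣ r := by
      rw [← hrK, ← IsGalois.card_aut_eq_finrank F K]
      exact orderOf_dvd_natCard Φe
    rw [← orderOf_eq_one_iff]
    rcases (Nat.dvd_prime Nat.prime_two).mp h1 with h | h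
    · exact h
    · rw [h] at h2
      rcases hr with rfl | rfl <;> norm_num at h2
  have hψcj : ∀ a : K, ψ a = a ^ (q ^ r) := fun a => by
    have h := AlgEquiv.ext_iff.mp hΦ1 (ψ a)
    change fr (ψ (ψ a)) = ψ a at h
    rw [hψψ, hfr] at h
    exact h.symm
  have D : HData (F := F) (n := n) K q := by
    refine ⟨hF, ?_, fun e u v => ?_⟩
    · rw [hrK]; rcases hr with rfl | rfl <;> decide
    · rw [hrK, ← hψcj]; exact hψ e u v
  have hd2 : 2 ≤ finrank K Vs := by
    by_contra hlt
    have : r * finrank K Vs ≤ r * 1 := Nat.mul_le_mul le_rfl (by omega)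
    omega
  have hd3 : finrank K Vs ≠ 3 := fun e => hn3 (by rw [← hdim, e, mul_comm])
  have hbig' : (finrank F K = 5 ∨ (finrank F K = 3 ∧ 3 ≤ q)) ∨ 4 ≤ finrank K Vs := by
    rcases hbig with h | h
    · exact Or.inl (h.imp hrK.trans (And.imp_left hrK.trans))
    · refine Or.inr (Nat.le_of_mul_le_mul_left (c := r) ?_ hrp.pos)
      rw [hdim, mul_comm r 4]; exact h
  -- mapping into the algebra suffices
  have hnorm : ∀ g : GL (Fin n) F,
      (∀ k ∈ K, (g : Ms) * k * ((g⁻¹ : GL (Fin n) F) : Ms) ∈ K) → g ∈ Cfsg.Geo.subalgebraNormalizer K := by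
    intro g h a
    refine ⟨h a, fun ha => ?_⟩
    let f : K → K := fun x => ⟨_, h x x.2⟩
    have hf : Function.Injective f := fun x y hxy => Subtype.ext
      ((Units.mul_right_inj g).mp ((Units.mul_left_inj g⁻¹).mp (congrArg Subtype.val hxy)))
    obtain ⟨x, hx⟩ := Finite.surjective_of_injective hf ⟨_, ha⟩
    exact ((Units.mul_right_inj g).mp ((Units.mul_left_inj g⁻¹).mp (congrArg Subtype.val hx))) ▸ x.2
  refine ⟨lt_of_le_of_ne inf_le_right fun heq => ?_, fun M hHM hMS => ?_⟩
  · -- some transvection does not normalise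
    obtain ⟨δ, hδ0, hδ⟩ := D.exists_isotropic hd2
    have hδh : Cfsg.hermForm n F q δ δ = 0 := by rw [D.h_eq, hδ, map_zero]
    obtain ⟨c, hc, hc0⟩ := UnitaryMax.exists_skew_ne hF
    have hg := (heq.ge (UnitaryMax.T_mem hF δ hδh hc)).1
    set g := UnitaryMax.T δ c hδh with hgdef
    have hcomm : ∀ (k : K) (x : Vs), (g : Ms) *ᵥ (k • x) = k • ((g : Ms) *ᵥ x) := by
      intro k
      set k' : K := ⟨_, (hg k).mp k.2⟩ with hk'
      have hsemi : ∀ x, (g : Ms) *ᵥ (k • x) = k' • ((g : Ms) *ᵥ x) := fun x => by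
        rw [hsm, hsm, hk', mulVec_mulVec, mulVec_mulVec, mul_assoc, ← Units.val_mul, inv_mul_cancel, Units.val_one,
          mul_one]
      let L : Vs →ₗ[F] F × F :=
        { toFun := fun x => (Cfsg.hermForm n F q x δ, Cfsg.hermForm n F q (k • x) δ)
          map_add' := fun x y => by simp [Forms.herm_add_left hF]
          map_smul' := fun a x => by simp [smul_comm k a x, Forms.herm_smul_left hF] }
      obtain ⟨x, hx, hx0⟩ := Submodule.exists_mem_ne_zero_of_ne_bot (p := LinearMap.ker L) fun e => by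
        have h1 := L.finrank_range_add_finrank_ker
        have h4 := Submodule.finrank_le (LinearMap.range L)
        rw [e, finrank_bot, Module.finrank_fintype_fun_eq_card, Fintype.card_fin] at h1
        rw [Module.finrank_prod, finrank_self] at h4
        omega
      have hx1 : Cfsg.hermForm n F q x δ = 0 := congrArg Prod.fst (LinearMap.mem_ker.mp hx)
      have hx2 : Cfsg.hermForm n F q (k • x) δ = 0 := congrArg Prod.snd (LinearMap.mem_ker.mp hx)
      have h := hsemi x
      rw [hgdef, UnitaryMax.T_mulVec, UnitaryMax.T_mulVec, hx1, hx2, mul_zero, zero_smul, add_zero, add_zero] at h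
      rw [← smul_left_injective K hx0 h] at hsemi
      exact hsemi
    obtain ⟨x, hx⟩ := UnitaryMax.exists_h_ne hF hδ0
    have hxδ : Cfsg.hermForm n F q x δ ≠ 0 := fun e => hx (UnitaryMax.h_symm hF e)
    have hbot : ∀ k : K, k ∈ (⊥ : Subalgebra F K) := fun k => by
      have h := hcomm k x
      rw [UnitaryMax.T_mulVec, UnitaryMax.T_mulVec, smul_add, add_right_inj, smul_comm k, ← sub_eq_zero] at h
      rw [← algebraMap_smul K (c * Cfsg.hermForm n F q (k • x) δ),
        ← algebraMap_smul K (c * Cfsg.hermForm n F q x δ) (k • δ), smul_smul, ← sub_smul, smul_eq_zero,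
        or_iff_left hδ0, sub_eq_zero] at h
      refine Algebra.mem_bot.mpr ⟨c * Cfsg.hermForm n F q (k • x) δ / (c * Cfsg.hermForm n F q x δ), ?_⟩
      rw [map_div₀, div_eq_iff (by simpa using mul_ne_zero hc0 hxδ), h, mul_comm]
    have : (⊥ : Subalgebra F K) = ⊤ := eq_top_iff.mpr fun k _ => hbot k
    have h2 : finrank F (⊥ : Subalgebra F K) = 1 := Subalgebra.finrank_bot
    rw [this, show finrank F (⊤ : Subalgebra F K) = finrank F K from
      (Subalgebra.topEquiv (R := F) (A := K)).toLinearEquiv.finrank_eq, hrK] at h2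
    omega
  by_cases hle : M ≤ Cfsg.Geo.subalgebraNormalizer K
  · exact Or.inl (le_antisymm (le_inf hle hMS) hHM)
  right
  obtain ⟨A, hAM, hA⟩ := SetLike.not_le_iff_exists.mp hle
  have hO : Over K q M := by
    refine ⟨hMS, fun g hg hlin => hHM ⟨hnorm _ fun k hk => ?_, hg⟩⟩
    have e : (g : Ms) * k = k * (g : Ms) := by
      refine Matrix.ext_iff_mulVec.mpr fun x => ?_
      rw [← mulVec_mulVec, ← mulVec_mulVec, ← hsm ⟨k, hk⟩, hlin, hsm]
    rw [e, mul_assoc, ← Units.val_mul, mul_inv_cancel, Units.val_one, mul_one]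
    exact hk
  obtain ⟨v, e, hv, hv0, he⟩ : ∃ (v : Vs) (e : K), D.BE v v = 0 ∧ v ≠ 0 ∧
      ∀ f : K, (A : Ms) *ᵥ (e • v) ≠ f • ((A : Ms) *ᵥ v) := by
    by_contra hno
    push Not at hno
    apply hA
    refine hnorm A fun k hk => ?_
    obtain ⟨f, hf⟩ := exists_semilinear D hd2 A (fun v e hv => by
      rcases eq_or_ne v 0 with rfl | hv0
      · exact ⟨0, by simp⟩
      · exact hno v e hv hv0) ⟨k, hk⟩
    have e : (A : Ms) * k = (f : Ms) * (A : Ms) := by
      refine Matrix.ext_iff_mulVec.mpr fun x => ?_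
      rw [← mulVec_mulVec, ← mulVec_mulVec]
      exact hf x
    rw [e, mul_assoc, ← Units.val_mul, mul_inv_cancel, Units.val_one, mul_one]
    exact f.2
  have h1 : Meet D M 1 := meet_one D hO hAM hv0 hv he
  have hrE : finrank F K = 3 ∨ finrank F K = 5 := by rw [hrK]; exact hr
  obtain ⟨δ, hδ0, hδ, hδR⟩ := exists_root D hd3 (by rw [hrK]; exact hr3) hO (meet_hyperplane D hrE hd3 hO h1)
  exact UnitaryMax.eq_suGL hF (by omega) (by omega) hMS fun x hx => root_all D hO hd3 hbig' hδ0 hδ hδR x hx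

theorem isMaximalIn_fieldNormalizer (hF : Fintype.card F = q ^ 2) (r : ℕ) (hr : r = 3 ∨ r = 5) (hn : 2 * r ≤ n)
    (hn3 : n ≠ 3 * r) (hbig : r = 5 ∨ 4 * r ≤ n) (K : Subalgebra F Ms) (hK : Cfsg.Geo.IsFieldSubalgebra r K)
    (hac : Cfsg.Geo.IsAdjointClosedFor (Cfsg.hermForm n F q) K) :
    Cfsg.Geo.IsMaximalIn (UnitaryMax.suGL n F q) (Cfsg.Geo.subalgebraNormalizer K ⊓ UnitaryMax.suGL n F q) :=
  isMaximalIn_fieldNormalizer_gen hF r hr hn hn3 (hbig.imp_left Or.inl) K hK hac

end Cfsg.Agent.Lib.SUExt
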