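import Cfsg.Agent.Lib.UnitaryMax.Basic

/-!
A hermitian space over `F` coming from one over an extension `E` of odd degree: the `E`-valued form, the
transvections along isotropic `E`-lines, and the predicate that `1 + A` lies in a group.
-/

set_option autoImplicit false
set_option linter.unusedSectionVars false
set_option linter.style.haveILetI false

namespace Cfsg.Agent.Lib.SUExt

open Module Matrix Cfsg.Agent.Lib

variable {F : Type*} [Field F] [Fintype F] {E : Type*} [Field E] [Algebra F E] [Finite E] {n q : ℕ}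
  [Module E (Fin n → F)] [IsScalarTower F E (Fin n → F)]

local notation "Vs" => (Fin n → F)
local notation "hh" => Cfsg.hermForm n F q
local notation "tr" => Algebra.trace F E

/-- The scalars of `E` are adjoint to their conjugates for the hermitian form. -/
structure HData (E : Type*) [Field E] [Algebra F E] [Module E (Fin n → F)] (q : ℕ) : Prop where
  card : Fintype.card F = q ^ 2
  odd : Odd (finrank F E)
  adj : ∀ (e : E) (u v : Fin n → F),
    Cfsg.hermForm n F q (e • u) v = Cfsg.hermForm n F q u ((e ^ (q ^ finrank F E)) • v)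

/-- The conjugation of `E`. -/
noncomputable def cj (F : Type*) [Field F] {E : Type*} [Field E] [Algebra F E] (q : ℕ) (e : E) : E := e ^ (q ^ finrank F E)

namespace HData

variable (D : HData (F := F) (n := n) E q)
include D

theorem two_le : 2 ≤ q := Forms.two_le_of_card_sq D.card

theorem card_E : Nat.card E = (q ^ finrank F E) ^ 2 := by
  rw [Module.natCard_eq_pow_finrank (K := F), Nat.card_eq_fintype_card, D.card, ← pow_mul, ← pow_mul, mul_comm]

theorem exists_cjHom : ∃ s : E →+* E, ∀ e, s e = cj F q e := by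
  haveI := Fintype.ofFinite E
  exact Forms.exists_qPow (q := q ^ finrank F E) (by rw [← Nat.card_eq_fintype_card, D.card_E])

theorem cj_add (a b : E) : cj F q (a + b) = cj F q a + cj F q b := by
  obtain ⟨s, hs⟩ := D.exists_cjHom
  simp only [← hs, map_add]

theorem cj_sub (a b : E) : cj F q (a - b) = cj F q a - cj F q b := by
  obtain ⟨s, hs⟩ := D.exists_cjHom
  simp only [← hs, map_sub]

theorem cj_neg (a : E) : cj F q (-a) = -cj F q a := by
  obtain ⟨s, hs⟩ := D.exists_cjHom
  simp only [← hs, map_neg]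

theorem cj_mul (a b : E) : cj F q (a * b) = cj F q a * cj F q b := mul_pow _ _ _

theorem cj_inv (a : E) : cj F q a⁻¹ = (cj F q a)⁻¹ := inv_pow _ _

theorem cj_zero : cj F q (0 : E) = 0 := by
  obtain ⟨s, hs⟩ := D.exists_cjHom
  rw [← hs, map_zero]

theorem cj_one : cj F q (1 : E) = 1 := one_pow _

theorem cj_cj (a : E) : cj F q (cj F q a) = a := by
  haveI := Fintype.ofFinite E
  exact Forms.pow_q_pow_q (by rw [← Nat.card_eq_fintype_card, D.card_E]) a

theorem cj_ne_zero {a : E} (h : a ≠ 0) : cj F q a ≠ 0 := pow_ne_zero _ h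

theorem cj_algebraMap (c : F) : cj F q (algebraMap F E c) = algebraMap F E (c ^ q) := by
  rw [cj, ← map_pow]
  congr 1
  obtain ⟨j, hj⟩ := D.odd
  have h : ∀ i, c ^ (q ^ (2 * i + 1)) = c ^ q := fun i => by
    induction i with
    | zero => simp
    | succ i ih =>
      rw [show 2 * (i + 1) + 1 = (2 * i + 1) + 1 + 1 by ring, pow_succ, pow_mul, pow_succ, pow_mul, ih,
        Forms.pow_q_pow_q D.card]
  rw [hj, h j]

theorem cj_smul (c : F) (a : E) : cj F q (c • a) = c ^ q • cj F q a := by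
  rw [Algebra.smul_def, D.cj_mul, D.cj_algebraMap, Algebra.smul_def]

theorem trace_cj (a : E) : tr (cj F q a) = tr a ^ q := by
  apply (algebraMap F E).injective
  rw [← D.cj_algebraMap]
  obtain ⟨s, hs⟩ := D.exists_cjHom
  rw [← hs, ← hs, FiniteField.algebraMap_trace_eq_sum_pow, FiniteField.algebraMap_trace_eq_sum_pow, map_sum]
  simp only [map_pow]

theorem hconj (u v : Vs) : hh u v ^ q = hh v u := Forms.herm_conj D.card u v

/-- The functional `e ↦ h (e • u) v`. -/
noncomputable def fn (u v : Vs) : E →ₗ[F] F where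
  toFun e := hh (e • u) v
  map_add' a b := by rw [add_smul, Forms.herm_add_left D.card]
  map_smul' c a := by rw [smul_assoc, Forms.herm_smul_left D.card, RingHom.id_apply, smul_eq_mul]

/-- The `E`-valued form: `tr (e * BE u v) = h (e • u) v`. -/
noncomputable def BE (u v : Vs) : E :=
  (LinearMap.BilinForm.toDual (Algebra.traceForm F E) (traceForm_nondegenerate F E)).symm (D.fn u v)

theorem trace_BE (u v : Vs) (e : E) : tr (e * D.BE u v) = hh (e • u) v := by
  rw [mul_comm, ← Algebra.traceForm_apply, BE, LinearMap.BilinForm.apply_toDual_symm_apply]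
  rfl

theorem h_eq (u v : Vs) : hh u v = tr (D.BE u v) := by
  have h := D.trace_BE u v 1
  rw [one_mul, one_smul] at h
  exact h.symm

theorem BE_unique {u v : Vs} {a : E} (h : ∀ e : E, tr (e * a) = hh (e • u) v) : D.BE u v = a := by
  refine sub_eq_zero.mp ((traceForm_nondegenerate F E).1 _ fun e => ?_)
  rw [Algebra.traceForm_apply, mul_comm, mul_sub, map_sub, h, D.trace_BE, sub_self]

theorem BE_conj (u v : Vs) : D.BE v u = cj F q (D.BE u v) := D.BE_unique fun e => by
  rw [show e = cj F q (cj F q e) from (D.cj_cj e).symm, ← D.cj_mul, D.trace_cj, D.trace_BE, D.adj (cj F q e),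
    D.hconj]
  rfl

theorem BE_add_left (u u' v : Vs) : D.BE (u + u') v = D.BE u v + D.BE u' v :=
  D.BE_unique fun e => by rw [mul_add, map_add, D.trace_BE, D.trace_BE, smul_add, Forms.herm_add_left D.card]

theorem BE_add_right (u v v' : Vs) : D.BE u (v + v') = D.BE u v + D.BE u v' :=
  D.BE_unique fun e => by rw [mul_add, map_add, D.trace_BE, D.trace_BE, Forms.herm_add_right D.card]

theorem BE_smul_left (a : E) (u v : Vs) : D.BE (a • u) v = a * D.BE u v :=
  D.BE_unique fun e => by rw [← mul_assoc, D.trace_BE, mul_smul]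

theorem BE_smul_right (a : E) (u v : Vs) : D.BE u (a • v) = cj F q a * D.BE u v := by
  rw [D.BE_conj, D.BE_smul_left, D.cj_mul, ← D.BE_conj]

theorem BE_zero_left (v : Vs) : D.BE 0 v = 0 := by
  rw [← zero_smul E (0 : Vs), D.BE_smul_left, zero_mul]

theorem BE_zero_right (u : Vs) : D.BE u 0 = 0 := by
  rw [D.BE_conj, D.BE_zero_left, D.cj_zero]

theorem BE_sub_left (u u' v : Vs) : D.BE (u - u') v = D.BE u v - D.BE u' v := by
  rw [eq_sub_iff_add_eq, ← D.BE_add_left, sub_add_cancel]

theorem BE_sub_right (u v v' : Vs) : D.BE u (v - v') = D.BE u v - D.BE u v' := by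
  rw [eq_sub_iff_add_eq, ← D.BE_add_right, sub_add_cancel]

theorem BE_smulF_left (c : F) (u v : Vs) : D.BE (c • u) v = c • D.BE u v := by
  rw [← algebraMap_smul E c u, D.BE_smul_left, Algebra.smul_def]

theorem BE_symm {u v : Vs} (h : D.BE u v = 0) : D.BE v u = 0 := by rw [D.BE_conj, h, D.cj_zero]

theorem BE_self_fixed (u : Vs) : cj F q (D.BE u u) = D.BE u u := (D.BE_conj u u).symm

theorem BE_nondeg {u : Vs} (h : ∀ v, D.BE u v = 0) : u = 0 :=
  (Forms.hermSesq_goodForm (n := n) D.card).nondeg u fun v => by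
    rw [Forms.hermSesq_apply, ← D.hconj, D.h_eq, h, map_zero, zero_pow (by have := D.two_le; omega)]

/-- `BE · u` as a functional over `E`. -/
noncomputable def func (u : Vs) : Vs →ₗ[E] E where
  toFun x := D.BE x u
  map_add' x y := D.BE_add_left x y u
  map_smul' a x := by rw [D.BE_smul_left, RingHom.id_apply, smul_eq_mul]

@[simp] theorem func_apply (u x : Vs) : D.func u x = D.BE x u := rfl

/-- The skew elements. -/
def skew (_D : HData (F := F) (n := n) E q) : AddSubgroup E where
  carrier := {a | cj F q a = -a}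
  add_mem' {a b} ha hb := by
    show cj F q (a + b) = -(a + b)
    rw [_D.cj_add, ha, hb, neg_add]
  zero_mem' := by
    show cj F q (0 : E) = -0
    rw [_D.cj_zero, neg_zero]
  neg_mem' {a} ha := by
    show cj F q (-a) = -(-a)
    rw [_D.cj_neg, ha]

theorem mem_skew {a : E} : a ∈ D.skew ↔ cj F q a = -a := Iff.rfl

theorem skew_mul_fixed {a k : E} (ha : a ∈ D.skew) (hk : cj F q k = k) : a * k ∈ D.skew := by
  rw [mem_skew, D.cj_mul, D.mem_skew.mp ha, hk, neg_mul]

theorem skew_inv {a : E} (ha : a ∈ D.skew) : a⁻¹ ∈ D.skew := by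
  rw [mem_skew, D.cj_inv, D.mem_skew.mp ha, inv_neg]

theorem exists_moved : ∃ ε : F, algebraMap F E ε ≠ algebraMap F E (ε ^ q) := by
  obtain ⟨a, ha⟩ := UnitaryMax.exists_moved D.card
  exact ⟨a, fun h => ha ((algebraMap F E).injective h).symm⟩

/-- Every element is a combination of two skew ones. -/
theorem exists_skew_decomp (ε : F) (hε : algebraMap F E ε ≠ algebraMap F E (ε ^ q)) (e : E) :
    ∃ a ∈ D.skew, ∃ b ∈ D.skew, e = a + ε • b := by
  set η := algebraMap F E ε with hη
  have hcη : cj F q η = algebraMap F E (ε ^ q) := D.cj_algebraMap ε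
  have hd : η - cj F q η ≠ 0 := by rw [hcη]; exact sub_ne_zero.mpr hε
  set b := (e + cj F q e) / (η - cj F q η) with hb
  have hbs : cj F q b = -b := by
    rw [hb, div_eq_mul_inv, D.cj_mul, D.cj_inv, D.cj_add, D.cj_sub, D.cj_cj, D.cj_cj]
    rw [show cj F q η - η = -(η - cj F q η) by ring, inv_neg]
    ring
  refine ⟨e - η * b, ?_, b, hbs, by rw [Algebra.smul_def, ← hη, sub_add_cancel]⟩
  have h1 : (η - cj F q η) * b = e + cj F q e := by rw [hb, mul_div_cancel₀ _ hd]
  rw [mem_skew, D.cj_sub, D.cj_mul, hbs]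
  linear_combination (-1 : E) * h1

/-- A subspace containing the skew elements is everything. -/
theorem top_of_skew (W : Submodule F E) (hW : ∀ a ∈ D.skew, a ∈ W) (e : E) : e ∈ W := by
  obtain ⟨ε, hε⟩ := D.exists_moved
  obtain ⟨a, ha, b, hb, rfl⟩ := D.exists_skew_decomp ε hε e
  exact W.add_mem (hW a ha) (W.smul_mem ε (hW b hb))

theorem card_skew : Nat.card D.skew = q ^ finrank F E := by
  obtain ⟨ε, hε⟩ := D.exists_moved
  let f : D.skew × D.skew → E := fun p => (p.1 : E) + ε • (p.2 : E)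
  have hf : Function.Bijective f := by
    refine ⟨fun p p' h => ?_, fun e => ?_⟩
    · have h' : (p.1 : E) + ε • (p.2 : E) = p'.1 + ε • (p'.2 : E) := h
      have h2 := congrArg (cj F q) h'
      rw [D.cj_add, D.cj_add, D.cj_smul, D.cj_smul, p.1.2, p.2.2, p'.1.2, p'.2.2] at h2
      simp only [Algebra.smul_def] at h' h2
      have h3 : (algebraMap F E ε - algebraMap F E (ε ^ q)) * ((p.2 : E) - p'.2) = 0 := by
        linear_combination h' + h2
      have h4 : (p.2 : E) = p'.2 := sub_eq_zero.mp ((mul_eq_zero.mp h3).resolve_left (sub_ne_zero.mpr hε))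
      rw [h4] at h'
      exact Prod.ext (Subtype.ext (add_right_cancel h')) (Subtype.ext h4)
    · obtain ⟨a, ha, b, hb, rfl⟩ := D.exists_skew_decomp ε hε e
      exact ⟨(⟨a, ha⟩, ⟨b, hb⟩), rfl⟩
  have h := Nat.card_eq_of_bijective f hf
  rw [Nat.card_prod, D.card_E, sq] at h
  exact Nat.mul_self_inj.mp h

/-- `x ↦ (a * BE x u) • u`. -/
noncomputable def tp (u : Vs) (a : E) : Vs →ₗ[F] Vs where
  toFun x := (a * D.BE x u) • u
  map_add' x y := by rw [D.BE_add_left, mul_add, add_smul]
  map_smul' c x := by rw [D.BE_smulF_left, mul_smul_comm, smul_assoc, RingHom.id_apply]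

theorem tp_apply (u : Vs) (a : E) (x : Vs) : D.tp u a x = (a * D.BE x u) • u := rfl

theorem tp_tp {u : Vs} (hu : D.BE u u = 0) (a b : E) (x : Vs) : D.tp u a (D.tp u b x) = 0 := by
  rw [tp_apply, tp_apply, D.BE_smul_left, hu, mul_zero, mul_zero, zero_smul]

theorem tp_skew {a : E} (ha : a ∈ D.skew) (u x z : Vs) : hh (D.tp u a x) z = -hh x (D.tp u a z) := by
  rw [D.h_eq, D.h_eq, D.tp_apply, D.tp_apply, D.BE_smul_left, D.BE_smul_right, D.cj_mul, ← D.BE_conj z u,
    D.mem_skew.mp ha, ← map_neg]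
  ring_nf

/-- `1 + tp u a` as an invertible matrix. -/
noncomputable def T (u : Vs) (a : E) (hu : D.BE u u = 0) : GL (Fin n) F :=
  (Forms.glEquiv (Fin n) F).symm (LinearEquiv.ofLinearMap (LinearMap.id + D.tp u a) (LinearMap.id + D.tp u (-a))
    (LinearMap.ext fun x => by
      simp only [LinearMap.comp_apply, LinearMap.add_apply, LinearMap.id_apply, map_add, D.tp_tp hu, add_zero]
      simp [tp_apply])
    (LinearMap.ext fun x => by
      simp only [LinearMap.comp_apply, LinearMap.add_apply, LinearMap.id_apply, map_add, D.tp_tp hu, add_zero]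
      simp [tp_apply]))

theorem T_apply (u : Vs) (a : E) (hu : D.BE u u = 0) (x : Vs) :
    (D.T u a hu : Matrix (Fin n) (Fin n) F) *ᵥ x = x + (a * D.BE x u) • u := by
  rw [T, Forms.glEquiv_symm_mulVec]
  rfl

theorem T_smul (u : Vs) (a : E) (hu : D.BE u u = 0) (e : E) (x : Vs) :
    (D.T u a hu : Matrix (Fin n) (Fin n) F) *ᵥ (e • x) = e • ((D.T u a hu : Matrix (Fin n) (Fin n) F) *ᵥ x) := by
  rw [T_apply, T_apply, D.BE_smul_left, smul_add, smul_smul]
  ring_nf

theorem T_fix {u x : Vs} (a : E) (hu : D.BE u u = 0) (h : D.BE x u = 0) :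
    (D.T u a hu : Matrix (Fin n) (Fin n) F) *ᵥ x = x := by
  rw [T_apply, h, mul_zero, zero_smul, add_zero]

theorem T_mem_suGL (u : Vs) {a : E} (ha : a ∈ D.skew) (hu : D.BE u u = 0) :
    D.T u a hu ∈ UnitaryMax.suGL n F q := by
  refine UnitaryMax.mem_suGL_iff.mpr ⟨fun x z => ?_, ?_⟩
  · have h1 : hh (D.tp u a x) (D.tp u a z) = 0 := by
      rw [D.h_eq, D.tp_apply, D.tp_apply, D.BE_smul_left, D.BE_smul_right, hu, mul_zero, mul_zero, map_zero]
    have h2 := D.tp_skew ha u x z
    rw [D.T_apply, D.T_apply, ← D.tp_apply, ← D.tp_apply, Forms.herm_add_left D.card, Forms.herm_add_right D.card,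
      Forms.herm_add_right D.card, h1, h2]
    ring
  · have hfin : FiniteDimensional E Vs := Module.Finite.of_finite
    have e : Matrix.toLin' (D.T u a hu : Matrix (Fin n) (Fin n) F) =
        (LinearMap.transvection (a • D.func u) u).restrictScalars F := LinearMap.ext fun x => by
      rw [Matrix.toLin'_apply, D.T_apply]
      simp [LinearMap.transvection.apply]
    rw [← LinearMap.det_toLin', e, LinearMap.det_restrictScalars, LinearMap.transvection.det]
    simp [hu]

end HData

/-- An overgroup of the `E`-linear isometries of determinant one. -/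
structure Over (E : Type*) [Field E] [Module E (Fin n → F)] (q : ℕ) (M : Subgroup (GL (Fin n) F)) : Prop where
  le : M ≤ UnitaryMax.suGL n F q
  lin : ∀ g ∈ UnitaryMax.suGL n F q,
    (∀ (e : E) v, (g : Matrix (Fin n) (Fin n) F) *ᵥ (e • v) = e • ((g : Matrix (Fin n) (Fin n) F) *ᵥ v)) → g ∈ M

/-- `1 + A` lies in `M`. -/
def InM (M : Subgroup (GL (Fin n) F)) (A : Vs →ₗ[F] Vs) : Prop :=
  ∃ g ∈ M, ∀ x, (g : Matrix (Fin n) (Fin n) F) *ᵥ x = x + A x

variable {M : Subgroup (GL (Fin n) F)}

theorem inM_zero : InM M (0 : Vs →ₗ[F] Vs) := ⟨1, one_mem M, fun x => by simp⟩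

theorem InM.add {A A' : Vs →ₗ[F] Vs} (h : InM M A) (h' : InM M A') (h0 : ∀ x, A (A' x) = 0) :
    InM M (A + A') := by
  obtain ⟨g, hg, eg⟩ := h
  obtain ⟨g', hg', eg'⟩ := h'
  refine ⟨g * g', mul_mem hg hg', fun x => ?_⟩
  rw [Units.val_mul, ← mulVec_mulVec, eg', eg, map_add, h0, LinearMap.add_apply]
  abel

theorem InM.neg {A : Vs →ₗ[F] Vs} (h : InM M A) (h0 : ∀ x, A (A x) = 0) : InM M (-A) := by
  obtain ⟨g, hg, eg⟩ := h
  refine ⟨g⁻¹, inv_mem hg, fun x => ?_⟩
  have hx : (g : Matrix (Fin n) (Fin n) F) *ᵥ (x - A x) = x := by rw [eg, map_sub, h0, sub_zero, sub_add_cancel]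
  conv_lhs => rw [← hx]
  rw [UnitaryMax.inv_mulVec_mulVec, LinearMap.neg_apply, ← sub_eq_add_neg]

theorem InM.conj {A : Vs →ₗ[F] Vs} (h : InM M A) {k : GL (Fin n) F} (hk : k ∈ M) {A' : Vs →ₗ[F] Vs}
    (e : ∀ x, A' ((k : Matrix (Fin n) (Fin n) F) *ᵥ x) = (k : Matrix (Fin n) (Fin n) F) *ᵥ A x) : InM M A' := by
  obtain ⟨g, hg, eg⟩ := h
  refine ⟨k * g * k⁻¹, mul_mem (mul_mem hk hg) (inv_mem hk), fun x => ?_⟩
  rw [← UnitaryMax.mulVec_inv_mulVec k x]
  set y := ((k⁻¹ : GL (Fin n) F) : Matrix (Fin n) (Fin n) F) *ᵥ x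
  rw [Units.val_mul, Units.val_mul, ← mulVec_mulVec, ← mulVec_mulVec, UnitaryMax.inv_mulVec_mulVec, eg,
    mulVec_add, e]

theorem Over.T_mem (hO : Over E q M) (D : HData (F := F) (n := n) E q) (u : Vs) {a : E} (ha : a ∈ D.skew)
    (hu : D.BE u u = 0) : D.T u a hu ∈ M :=
  hO.lin _ (D.T_mem_suGL u ha hu) (D.T_smul u a hu)

theorem Over.tp_mem (hO : Over E q M) (D : HData (F := F) (n := n) E q) (u : Vs) {a : E} (ha : a ∈ D.skew)
    (hu : D.BE u u = 0) : InM M (D.tp u a) :=
  ⟨_, hO.T_mem D u ha hu, D.T_apply u a hu⟩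

end Cfsg.Agent.Lib.SUExt
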