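import Cfsg.Agent.Lib.SUExt.Meet

/-!
Raising the intersection with an isotropic line up to a hyperplane.
-/

set_option autoImplicit false
set_option linter.unusedSectionVars false
set_option linter.style.haveILetI false

namespace Cfsg.Agent.Lib.SUExt

open Module Matrix Cfsg.Agent.Lib

variable {F : Type*} [Field F] [Fintype F] {E : Type*} [Field E] [Algebra F E] [Finite E] {n q : ℕ}
  [Module E (Fin n → F)] [IsScalarTower F E (Fin n → F)]

local notation "Vs" => (Fin n → F)
local notation "Ms" => Matrix (Fin n) (Fin n) F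
local notation "hh" => Cfsg.hermForm n F q
local notation "tr" => Algebra.trace F E

variable {M : Subgroup (GL (Fin n) F)} (D : HData (F := F) (n := n) E q)

/-- A skew scalar sending a member of `P` into `Xc` without sending all of `P` there. -/
theorem exists_skew_small {P Xc : Submodule F E} (hX : 0 < finrank F Xc) (hlt : finrank F Xc < finrank F P)
    (hdim : finrank F E < 2 * finrank F P) :
    ∃ a ∈ D.skew, (∃ p ∈ P, p ≠ 0 ∧ a * p ∈ Xc) ∧ ∃ p ∈ P, a * p ∉ Xc := by
  obtain ⟨x, hx, hx0⟩ := Submodule.exists_mem_ne_zero_of_ne_bot (p := Xc) fun e => by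
    rw [e, finrank_bot] at hX; omega
  obtain ⟨p, hp, b, hb, hpb⟩ : ∃ p ∈ P, ∃ b ∈ D.skew, b ≠ 0 ∧ p = x * b := by
    haveI := Fintype.ofFinite E
    let f : P × D.skew → E := fun z => (z.1 : E) - x * (z.2 : E)
    have hcard : Nat.card E < Nat.card (P × D.skew) := by
      rw [D.card_E, Nat.card_prod, D.card_skew, Module.natCard_eq_pow_finrank (K := F) (V := P),
        Nat.card_eq_fintype_card (α := F), D.card, ← pow_mul, ← pow_mul, ← pow_add]
      exact Nat.pow_lt_pow_right D.two_le (by omega)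
    obtain ⟨z, z', he, hne⟩ : ∃ z z', f z = f z' ∧ z ≠ z' := by
      by_contra hno
      push Not at hno
      have := Nat.card_le_card_of_injective f hno
      omega
    refine ⟨(z.1 : E) - z'.1, P.sub_mem z.1.2 z'.1.2, (z.2 : E) - z'.2, sub_mem z.2.2 z'.2.2, ?_, ?_⟩
    · intro e
      rw [sub_eq_zero] at e
      apply hne
      refine Prod.ext (Subtype.ext ?_) (Subtype.ext e)
      have he' : (z.1 : E) - x * z.2 = z'.1 - x * z'.2 := he
      rw [e] at he'
      exact sub_left_inj.mp he'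
    · have he' : (z.1 : E) - x * z.2 = z'.1 - x * z'.2 := he
      linear_combination he'
  obtain ⟨hb0, rfl⟩ := hpb
  refine ⟨b⁻¹, D.skew_inv hb, ⟨_, hp, mul_ne_zero hx0 hb0, ?_⟩, ?_⟩
  · rwa [mul_comm x, inv_mul_cancel_left₀ hb0]
  · by_contra hno
    push Not at hno
    have hle : P.map (LinearMap.mulLeft F b⁻¹) ≤ Xc := by
      rintro _ ⟨p, hp, rfl⟩; exact hno p hp
    have h1 := Submodule.finrank_mono hle
    rw [← (Submodule.equivMapOfInjective (LinearMap.mulLeft F b⁻¹)
      (fun s t e => mul_left_cancel₀ (inv_ne_zero hb0) e) P).finrank_eq] at h1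
    omega

/-- Shears whose coefficients are arbitrary increase the intersection. -/
theorem meet_step_free (hr : (finrank F E).Prime) {g : GL (Fin n) F} (hg : g ∈ M) {v w : Vs} (hv : v ≠ 0)
    (hvv : D.BE v v = 0) (hw : w ≠ 0) (hk : 0 < finrank F ↥(img E g v ⊓ ln E w))
    (hk1 : finrank F ↥(img E g v ⊓ ln E w) + 1 < finrank F E) (p : Vs →ₗ[F] E)
    {y₀ : Vs} (hy₀ : y₀ ∈ img E g v) (hpy₀ : p y₀ ≠ 0) (sh : E → GL (Fin n) F) (hsh : ∀ a, sh a ∈ M)
    (hfix : ∀ a, ∀ x ∈ img E g v ⊓ ln E w, (sh a : Ms) *ᵥ x = x)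
    (hpX : ∀ x ∈ img E g v ⊓ ln E w, p x = 0)
    (happ : ∀ a, ∀ y ∈ img E g v, (sh a : Ms) *ᵥ y = y + (a * p y) • w) :
    Meet D M (finrank F ↥(img E g v ⊓ ln E w) + 1) := by
  set X := img E g v ⊓ ln E w with hX
  set Xc : Submodule F E := X.comap ((LinearMap.toSpanSingleton E Vs w).restrictScalars F) with hXc
  have memXc : ∀ e : E, e ∈ Xc ↔ e • w ∈ img E g v := fun e =>
    ⟨fun h => (Submodule.mem_inf.mp h).1, fun h => ⟨h, smul_mem_ln e w⟩⟩
  have happ' : ∀ a, ∀ y ∈ img E g v, ((sh a : Ms) *ᵥ y ∈ img E g v ↔ a * p y ∈ Xc) := fun a y hy => by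
    rw [happ a y hy, Submodule.add_mem_iff_right _ hy, memXc]
  obtain ⟨x, hx, hx0⟩ : ∃ x ∈ X, x ≠ 0 := Submodule.exists_mem_ne_zero_of_ne_bot fun e => by
    rw [e, finrank_bot] at hk; omega
  obtain ⟨x1, rfl⟩ := (Submodule.mem_inf.mp hx).2
  have hx1 : x1 ∈ Xc := hx
  have hx10 : x1 ≠ 0 := fun e => hx0 (by simp [e])
  obtain ⟨z, hz⟩ : ∃ z, z ∉ Xc := by
    by_contra hall
    push Not at hall
    have : ln E w ≤ X := by rintro _ ⟨e, rfl⟩; exact hall e
    have := Submodule.finrank_mono this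
    rw [finrank_ln hw] at this
    omega
  by_cases hker : ∃ y ∈ img E g v, p y = 0 ∧ y ∉ X
  · obtain ⟨y, hy, hpy, hyX⟩ := hker
    refine meet_shift D hg (hsh (z / p y₀)) hv hvv inf_le_left (hfix _) hy ((happ' _ y hy).mpr ?_) hyX hy₀
      fun h => hz ?_
    · rw [hpy, mul_zero]; exact Xc.zero_mem
    · have := (happ' _ y₀ hy₀).mp h
      rwa [div_mul_cancel₀ _ hpy₀] at this
  push Not at hker
  obtain ⟨y₂, hy₂, hy₂s⟩ : ∃ y ∈ img E g v, ∀ c : F, p y ≠ c • p y₀ := by
    by_contra hno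
    push Not at hno
    have hle : img E g v ≤ X ⊔ Submodule.span F {y₀} := fun y hy => by
      obtain ⟨c, hc⟩ := hno y hy
      refine Submodule.mem_sup.mpr ⟨y - c • y₀, hker _ (Submodule.sub_mem _ hy (Submodule.smul_mem _ c hy₀))
        (by rw [map_sub, map_smul, hc, sub_self]), c • y₀, Submodule.smul_mem _ c
        (Submodule.mem_span_singleton_self y₀), sub_add_cancel _ _⟩
    have h1 := Submodule.finrank_mono hle
    have h2 := Submodule.finrank_add_le_finrank_add_finrank X (Submodule.span F {y₀})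
    rw [finrank_img g hv] at h1
    rw [finrank_span_singleton (fun e => hpy₀ (by rw [e, map_zero]))] at h2
    omega
  set s := p y₂ / p y₀ with hs
  obtain ⟨x2, hx2, hsx2⟩ : ∃ x ∈ Xc, s * x ∉ Xc := by
    by_contra hno
    push Not at hno
    let S : Subalgebra F E :=
      { carrier := {e | ∀ x ∈ Xc, e * x ∈ Xc}
        mul_mem' := fun {a b} ha hb x hx => by rw [mul_assoc]; exact ha _ (hb _ hx)
        add_mem' := fun {a b} ha hb x hx => by rw [add_mul]; exact Xc.add_mem (ha _ hx) (hb _ hx)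
        algebraMap_mem' := fun c x hx => by rw [← Algebra.smul_def]; exact Xc.smul_mem c hx }
    haveI := Subalgebra.isSimpleOrder_of_finrank_prime F E hr
    rcases IsSimpleOrder.eq_bot_or_eq_top S with hS | hS
    · obtain ⟨c, hc⟩ := Algebra.mem_bot.mp (hS ▸ (show s ∈ S from hno) : s ∈ (⊥ : Subalgebra F E))
      refine hy₂s c ?_
      rw [Algebra.smul_def, hc, hs, div_mul_cancel₀ _ hpy₀]
    · refine hz ?_
      have h := (hS ▸ Algebra.mem_top : z / x1 ∈ S) x1 hx1
      rwa [div_mul_cancel₀ _ hx10] at h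
  refine meet_shift D hg (hsh (x2 / p y₀)) hv hvv inf_le_left (hfix _) hy₀ ((happ' _ y₀ hy₀).mpr ?_)
    (fun h => hpy₀ (hpX _ h)) hy₂ fun h => hsx2 ?_
  · rwa [div_mul_cancel₀ _ hpy₀]
  · have := (happ' _ y₂ hy₂).mp h
    rwa [show x2 / p y₀ * p y₂ = s * x2 by rw [hs]; ring] at this

variable (hr : finrank F E = 3 ∨ finrank F E = 5)
include hr

/-- One step up. -/
theorem meet_succ (hd3 : finrank E Vs ≠ 3) (hO : Over E q M) {g : GL (Fin n) F} (hg : g ∈ M) {v w : Vs}
    (hv : v ≠ 0) (hw : w ≠ 0) (hvv : D.BE v v = 0) (hww : D.BE w w = 0) (hne : img E g v ≠ ln E w)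
    (hk : 0 < finrank F ↥(img E g v ⊓ ln E w))
    (hk1 : finrank F ↥(img E g v ⊓ ln E w) + 1 < finrank F E) :
    Meet D M (finrank F ↥(img E g v ⊓ ln E w) + 1) := by
  classical
  have hrp : (finrank F E).Prime := by rcases hr with h | h <;> rw [h] <;> norm_num
  set X := img E g v ⊓ ln E w with hX
  set Xc : Submodule F E := X.comap ((LinearMap.toSpanSingleton E Vs w).restrictScalars F) with hXc
  have memXc : ∀ e : E, e ∈ Xc ↔ e • w ∈ img E g v := fun e =>
    ⟨fun h => (Submodule.mem_inf.mp h).1, fun h => ⟨h, smul_mem_ln e w⟩⟩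
  have hXcdim : finrank F Xc = finrank F X := by
    have hmap : Xc.map ((LinearMap.toSpanSingleton E Vs w).restrictScalars F) = X := by
      rw [hXc, Submodule.map_comap_eq_self]
      exact inf_le_right
    conv_rhs => rw [← hmap]
    exact (Submodule.equivMapOfInjective _ (smul_left_injective E hw) Xc).finrank_eq
  have hXw : ∀ x ∈ X, D.BE x w = 0 := fun x hx => by
    obtain ⟨e, rfl⟩ := (Submodule.mem_inf.mp hx).2
    show D.BE (e • w) w = 0
    rw [D.BE_smul_left, hww, mul_zero]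
  by_cases ha : ∃ y ∈ img E g v, D.BE y w ≠ 0
  · obtain ⟨y₀, hy₀, h0⟩ := ha
    have hT : ∀ {a : E}, a ∈ D.skew → D.T w a hww ∈ M := fun ha' => hO.T_mem D w ha' hww
    have hfix : ∀ a : E, ∀ x ∈ X, (D.T w a hww : Ms) *ᵥ x = x := fun a x hx => D.T_fix a hww (hXw x hx)
    have happ : ∀ (a : E) (y : Vs), y ∈ img E g v →
        ((D.T w a hww : Ms) *ᵥ y ∈ img E g v ↔ a * D.BE y w ∈ Xc) := fun a y hy => by
      rw [D.T_apply, Submodule.add_mem_iff_right _ hy, memXc]
    obtain ⟨z, hz⟩ : ∃ a ∈ D.skew, a * D.BE y₀ w ∉ Xc := by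
      by_contra hno
      push Not at hno
      have h := D.top_of_skew (Xc.comap (LinearMap.mulRight F (D.BE y₀ w))) hno
      have hall : ∀ e : E, e ∈ Xc := fun e => by
        have := h (e / D.BE y₀ w)
        simpa [div_mul_cancel₀ _ h0] using this
      have : Xc = ⊤ := eq_top_iff.mpr fun e _ => hall e
      rw [this, finrank_top] at hXcdim
      omega
    obtain ⟨hz, hzy⟩ := hz
    by_cases hker : ∃ y ∈ img E g v, D.BE y w = 0 ∧ y ∉ X
    · obtain ⟨y, hy, hpy, hyX⟩ := hker
      refine meet_shift D hg (hT hz) hv hvv inf_le_left (hfix _) hy ((happ _ y hy).mpr ?_) hyX hy₀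
        fun h => hzy ((happ _ y₀ hy₀).mp h)
      rw [hpy, mul_zero]; exact Xc.zero_mem
    push Not at hker
    set P : Submodule F E := (img E g v).map ((D.func w).restrictScalars F) with hP
    have hPdim : finrank F P + finrank F X = finrank F E := by
      have h1 := (((D.func w).restrictScalars F).comp (img E g v).subtype).finrank_range_add_finrank_ker
      have hk' : (LinearMap.ker (((D.func w).restrictScalars F).comp (img E g v).subtype)).map (img E g v).subtype
          = X := by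
        rw [LinearMap.ker_comp, Submodule.map_comap_subtype]
        refine le_antisymm (fun y hy => hker y hy.1 hy.2) fun y hy => ⟨hy.1, hXw y hy⟩
      rw [← Submodule.finrank_map_subtype_eq (img E g v) (LinearMap.ker _), hk', LinearMap.range_comp,
        Submodule.range_subtype, finrank_img g hv] at h1
      exact h1
    suffices ∃ a ∈ D.skew, (∃ p ∈ P, p ≠ 0 ∧ a * p ∈ Xc) ∧ ∃ p ∈ P, a * p ∉ Xc by
      obtain ⟨a, ha', ⟨_, ⟨y, hy, rfl⟩, hy0, hay⟩, _, ⟨y', hy', rfl⟩, hay'⟩ := this
      exact meet_shift D hg (hT ha') hv hvv inf_le_left (hfix _) hy ((happ _ y hy).mpr hay)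
        (fun h => hy0 (hXw y h)) hy' fun h => hay' ((happ _ y' hy').mp h)
    by_cases hsmall : 2 * finrank F X < finrank F E
    · exact exists_skew_small D (by omega) (by omega) (by omega)
    have hr5 : finrank F E = 5 ∧ finrank F X = 3 := by omega
    obtain ⟨y₂, hy₂, hy₂s⟩ : ∃ y ∈ img E g v, ∀ c : F, c • D.BE y₀ w ≠ D.BE y w := by
      by_contra hno
      push Not at hno
      have hle : P ≤ Submodule.span F {D.BE y₀ w} := by
        rintro _ ⟨y, hy, rfl⟩
        obtain ⟨c, hc⟩ := hno y hy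
        exact Submodule.mem_span_singleton.mpr ⟨c, hc⟩
      have h1 := Submodule.finrank_mono hle
      rw [finrank_span_singleton h0] at h1
      omega
    obtain ⟨A, B, C, C', hdet, hgood⟩ := exists_good_pair D hrp (by omega) (s := D.BE y₂ w / D.BE y₀ w)
      (fun c e => hy₂s c (by rw [Algebra.smul_def, e, div_mul_cancel₀ _ h0]))
    set p₀ := A • D.BE y₀ w + B • D.BE y₂ w with hp₀
    set p₂ := C • D.BE y₀ w + C' • D.BE y₂ w with hp₂
    have hp₀P : p₀ ∈ P := P.add_mem (P.smul_mem _ ⟨y₀, hy₀, rfl⟩) (P.smul_mem _ ⟨y₂, hy₂, rfl⟩)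
    have hp₂P : p₂ ∈ P := P.add_mem (P.smul_mem _ ⟨y₀, hy₀, rfl⟩) (P.smul_mem _ ⟨y₂, hy₂, rfl⟩)
    set π₀ := D.BE y₀ w with hπ₀
    set s := D.BE y₂ w / π₀ with hs
    have e₀ : p₀ = π₀ * (algebraMap F E A + B • s) := by
      rw [hp₀, hs, Algebra.smul_def, Algebra.smul_def, Algebra.smul_def]; field_simp
    have e₂ : p₂ = π₀ * (algebraMap F E C + C' • s) := by
      rw [hp₂, hs, Algebra.smul_def, Algebra.smul_def, Algebra.smul_def]; field_simp
    have hp₀0 : p₀ ≠ 0 := by
      intro h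
      rw [e₀, mul_eq_zero, or_iff_right h0] at h
      by_cases hB : B = 0
      · rw [hB, zero_smul, add_zero, map_eq_zero] at h
        exact hdet (by rw [h, hB]; ring)
      · refine hy₂s (-A / B) ?_
        have hB' : algebraMap F E B ≠ 0 := by simpa using hB
        rw [hs, Algebra.smul_def] at h
        rw [Algebra.smul_def, map_div₀, map_neg, div_mul_eq_mul_div, div_eq_iff hB']
        field_simp at h
        linear_combination -h
    set W := Submodule.span F ({p₀ * cj F q p₀, p₀ * cj F q p₂, p₂ * cj F q p₀} : Set E) with hW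
    have hN : p₂ * cj F q p₂ ∉ W := by
      intro h
      apply hgood
      have hπ : π₀ * cj F q π₀ ≠ 0 := mul_ne_zero h0 (D.cj_ne_zero h0)
      have key : ∀ a b : E, π₀ * a * cj F q (π₀ * b) = LinearMap.mulLeft F (π₀ * cj F q π₀) (a * cj F q b) :=
        fun a b => by rw [LinearMap.mulLeft_apply, D.cj_mul]; ring
      rw [hW, e₀, e₂, key, key, key, key,
        ← Set.image_singleton (f := LinearMap.mulLeft F (π₀ * cj F q π₀)), ← Set.image_insert_eq,
        ← Set.image_insert_eq, Submodule.span_image] at h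
      obtain ⟨x, hx, hxe⟩ := h
      rwa [mul_left_cancel₀ hπ hxe] at hx
    obtain ⟨e, heW, heN⟩ : ∃ e : E, (∀ x ∈ W, tr (e * x) = 0) ∧ tr (e * (p₂ * cj F q p₂)) ≠ 0 := by
      obtain ⟨φ, hφ, hφW⟩ := Submodule.exists_dual_map_eq_bot_of_notMem hN inferInstance
      set e := (LinearMap.BilinForm.toDual (Algebra.traceForm F E) (traceForm_nondegenerate F E)).symm φ with he
      have key : ∀ x, tr (e * x) = φ x := fun x => by
        rw [← Algebra.traceForm_apply, he, LinearMap.BilinForm.apply_toDual_symm_apply]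
      refine ⟨e, fun x hx => ?_, by rw [key]; exact hφ⟩
      have h : φ x ∈ W.map φ := ⟨x, hx, rfl⟩
      rw [hφW, Submodule.mem_bot] at h
      rw [key, h]
    have hcjW : ∀ x ∈ W, cj F q x ∈ W := by
      intro x hx
      induction hx using Submodule.span_induction with
      | mem z hz =>
        rcases hz with rfl | rfl | rfl
        · exact Submodule.subset_span (Or.inl (by rw [D.cj_mul, D.cj_cj, mul_comm]))
        · exact Submodule.subset_span (Or.inr (Or.inr (by rw [D.cj_mul, D.cj_cj, mul_comm]; rfl)))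
        · exact Submodule.subset_span (Or.inr (Or.inl (by rw [D.cj_mul, D.cj_cj, mul_comm])))
      | zero => rw [D.cj_zero]; exact W.zero_mem
      | add a b _ _ iha ihb => rw [D.cj_add]; exact W.add_mem iha ihb
      | smul c a _ iha => rw [D.cj_smul]; exact W.smul_mem _ iha
    have hce : ∀ x ∈ W, tr (cj F q e * x) = 0 := fun x hx => by
      rw [show x = cj F q (cj F q x) from (D.cj_cj x).symm, ← D.cj_mul, D.trace_cj, heW _ (hcjW x hx),
        zero_pow (by have := D.two_le; omega)]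
    obtain ⟨ε, hε⟩ := D.exists_moved
    obtain ⟨a₁, ha₁, b₁, hb₁, he₁⟩ := D.exists_skew_decomp ε hε e
    have hb₁W : ∀ x ∈ W, tr (b₁ * x) = 0 := fun x hx => by
      have h1 := heW x hx
      have h2 := hce x hx
      rw [he₁, D.cj_add, D.cj_smul, D.mem_skew.mp ha₁, D.mem_skew.mp hb₁] at h2
      rw [he₁] at h1
      simp only [add_mul, neg_mul, smul_mul_assoc, map_add, map_neg, map_smul, smul_eq_mul, mul_neg] at h1 h2
      exact (mul_eq_zero.mp (show (ε - ε ^ q) * tr (b₁ * x) = 0 by linear_combination h1 + h2)).resolve_left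
        fun h => hε (congrArg (algebraMap F E) (sub_eq_zero.mp h))
    have ha₁W : ∀ x ∈ W, tr (a₁ * x) = 0 := fun x hx => by
      have h1 := heW x hx
      rw [he₁, add_mul, smul_mul_assoc, map_add, map_smul, hb₁W x hx, smul_zero, add_zero] at h1
      exact h1
    obtain ⟨a, ha', haW, haN⟩ : ∃ a ∈ D.skew, (∀ x ∈ W, tr (a * x) = 0) ∧ tr (a * (p₂ * cj F q p₂)) ≠ 0 := by
      by_cases h : tr (a₁ * (p₂ * cj F q p₂)) = 0
      · refine ⟨b₁, hb₁, hb₁W, fun h' => heN ?_⟩
        rw [he₁, add_mul, smul_mul_assoc, map_add, map_smul, h, h', smul_zero, add_zero]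
      · exact ⟨a₁, ha₁, ha₁W, h⟩
    let Λ : E →ₗ[F] F × F := ((Algebra.trace F E).comp (LinearMap.mulRight F (cj F q p₀))).prod
      ((Algebra.trace F E).comp (LinearMap.mulRight F (cj F q p₂)))
    have hΛ : ∀ e : E, Λ e = (tr (e * cj F q p₀), tr (e * cj F q p₂)) := fun e => rfl
    have horth : ∀ e ∈ Xc, ∀ p ∈ P, tr (e * cj F q p) = 0 := by
      rintro e he' _ ⟨y, hy, rfl⟩
      show tr (e * cj F q (D.BE y w)) = 0
      rw [← D.BE_conj, ← D.BE_smul_left, ← D.h_eq]
      exact isotropic_img D hO hg hvv ((memXc e).mp he') hy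
    have hXcker : Xc = LinearMap.ker Λ := by
      refine Submodule.eq_of_le_of_finrank_le
        (fun e he' => by rw [LinearMap.mem_ker, hΛ, horth e he' _ hp₀P, horth e he' _ hp₂P]; rfl) ?_
      have hsurj : LinearMap.range Λ = ⊤ := by
        refine LinearMap.range_eq_top.mpr fun uv => ?_
        have t1 : tr (a * p₂ * cj F q p₀) = 0 := by
          rw [mul_assoc]; exact haW _ (Submodule.subset_span (by simp))
        have t2 : tr (a * p₂ * cj F q p₂) ≠ 0 := by rw [mul_assoc]; exact haN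
        obtain ⟨e', he'⟩ : ∃ e', tr (e' * cj F q p₀) ≠ 0 := by
          obtain ⟨t, ht⟩ := Algebra.trace_surjective F E 1
          refine ⟨t / cj F q p₀, ?_⟩
          rw [div_mul_cancel₀ _ (D.cj_ne_zero hp₀0), ht]
          exact one_ne_zero
        refine ⟨(uv.1 / tr (e' * cj F q p₀)) • e' +
          ((uv.2 - uv.1 / tr (e' * cj F q p₀) * tr (e' * cj F q p₂)) / tr (a * p₂ * cj F q p₂)) • (a * p₂), ?_⟩
        rw [map_add, map_smul, map_smul, hΛ, hΛ, t1]
        ext <;> simp [div_mul_cancel₀ _ he', div_mul_cancel₀ _ t2]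
      have h1 := Λ.finrank_range_add_finrank_ker
      rw [hsurj, finrank_top, Module.finrank_prod, finrank_self] at h1
      omega
    refine ⟨a, ha', ⟨p₀, hp₀P, hp₀0, ?_⟩, p₂, hp₂P, fun h => haN ?_⟩
    · rw [hXcker, LinearMap.mem_ker, hΛ, mul_assoc, mul_assoc, haW _ (Submodule.subset_span (by simp)),
        haW _ (Submodule.subset_span (by simp))]
      rfl
    · rw [← mul_assoc]; exact horth _ h _ hp₂P
  push Not at ha
  obtain ⟨y₁, hy₁, hy₁X⟩ := SetLike.exists_of_lt (lt_of_le_of_ne (inf_le_left : X ≤ img E g v) fun e => by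
    have := finrank_meet_lt hv hw hne
    rw [e, finrank_img g hv] at this
    omega)
  obtain ⟨p, hpp, hpw, hyp⟩ := D.exists_isotropic_perp hd3 hw hww (ha y₁ hy₁) fun e he =>
    hy₁X ⟨hy₁, e, he.symm⟩
  choose sh hsh happ using exists_shear D hO hww hpp hpw
  have hXp : ∀ x ∈ X, D.BE x p = 0 := fun x hx => by
    obtain ⟨e, rfl⟩ := (Submodule.mem_inf.mp hx).2
    show D.BE (e • w) p = 0
    rw [D.BE_smul_left, D.BE_symm hpw, mul_zero]
  exact meet_step_free D hrp hg hv hvv hw hk hk1 ((D.func p).restrictScalars F) hy₁ hyp sh hsh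
    (fun a x hx => by rw [happ a x (hXw x hx), hXp x hx, mul_zero, zero_smul, add_zero]) hXp
    (fun a y hy => happ a y (ha y hy))

/-- Some image meets an isotropic line in a hyperplane. -/
theorem meet_hyperplane (hd3 : finrank E Vs ≠ 3) (hO : Over E q M) (h1 : Meet D M 1) :
    Meet D M (finrank F E - 1) := by
  suffices ∀ k, 1 ≤ k → k < finrank F E → Meet D M k from this _ (by omega) (by omega)
  intro k hk
  induction k, hk using Nat.le_induction with
  | base => exact fun _ => h1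
  | succ k hk ih =>
    intro hlt
    obtain ⟨g, hg, v, w, hv, hw, hvv, hww, hne, hX⟩ := ih (by omega)
    by_cases hbig : k + 1 ≤ finrank F ↥(img E g v ⊓ ln E w)
    · exact ⟨g, hg, v, w, hv, hw, hvv, hww, hne, hbig⟩
    obtain ⟨g', hg', v', w', hv', hw', hvv', hww', hne', h'⟩ :=
      meet_succ D hr hd3 hO hg hv hw hvv hww hne (by omega) (by omega)
    exact ⟨g', hg', v', w', hv', hw', hvv', hww', hne', by omega⟩

end Cfsg.Agent.Lib.SUExt
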