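import Cfsg.Agent.Lib.SUExt.Root

/-!
One root subgroup of an isotropic vector over `E` yields all root subgroups.
-/

set_option autoImplicit false
set_option linter.unusedSectionVars false
set_option linter.style.haveILetI false

namespace Cfsg.Agent.Lib.SUExt

open Module Matrix Cfsg.Agent.Lib

variable {F : Type*} [Field F] [Fintype F] {E : Type*} [Field E] [Algebra F E] [Finite E] {n q : ℕ}
  [Module E (Fin n → F)] [IsScalarTower F E (Fin n → F)]

local notation "Vs" => (Fin n → F)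
local notation "Ms" => Matrix (Fin n) (Fin n) F
local notation "hh" => Cfsg.hermForm n F q
local notation "tr" => Algebra.trace F E

variable {M : Subgroup (GL (Fin n) F)} (D : HData (F := F) (n := n) E q)
include D

/-- Two functionals given by independent elements take prescribed values. -/
theorem exists_trace_pair {x y : E} (hy : y ≠ 0) (hxy : ∀ f : F, x ≠ f • y) (A B : F) :
    ∃ e : E, tr (x * e) = A ∧ tr (y * e) = B := by
  have hx : x ∉ Submodule.span F ({y} : Set E) := fun h => by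
    obtain ⟨f, hf⟩ := Submodule.mem_span_singleton.mp h
    exact hxy f hf.symm
  have hyx : y ∉ Submodule.span F ({x} : Set E) := fun h => by
    obtain ⟨f, hf⟩ := Submodule.mem_span_singleton.mp h
    have hf0 : f ≠ 0 := fun e => hy (by rw [← hf, e, zero_smul])
    exact hxy f⁻¹ (by rw [← hf, smul_smul, inv_mul_cancel₀ hf0, one_smul])
  have key : ∀ {u v : E}, u ∉ Submodule.span F ({v} : Set E) → ∃ e, tr (u * e) = 1 ∧ tr (v * e) = 0 := by
    intro u v h
    obtain ⟨φ, hφ, hφv⟩ := Submodule.exists_dual_map_eq_bot_of_notMem h inferInstance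
    set e := (LinearMap.BilinForm.toDual (Algebra.traceForm F E) (traceForm_nondegenerate F E)).symm φ with he
    have k : ∀ z, tr (e * z) = φ z := fun z => by
      rw [← Algebra.traceForm_apply, he, LinearMap.BilinForm.apply_toDual_symm_apply]
    refine ⟨(φ u)⁻¹ • e, ?_, ?_⟩
    · rw [mul_smul_comm, map_smul, mul_comm, k, smul_eq_mul, inv_mul_cancel₀ hφ]
    · have h : φ v ∈ (Submodule.span F ({v} : Set E)).map φ := ⟨v, Submodule.mem_span_singleton_self v, rfl⟩
      rw [hφv, Submodule.mem_bot] at h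
      rw [mul_smul_comm, map_smul, mul_comm, k, h, smul_zero]
  obtain ⟨e1, h11, h12⟩ := key hx
  obtain ⟨e2, h21, h22⟩ := key hyx
  exact ⟨A • e1 + B • e2, by simp [mul_add, mul_smul_comm, h11, h22], by simp [mul_add, mul_smul_comm, h12, h21]⟩

/-- In a space of dimension at least four over `E`, a vector may be sent to any multiple. -/
theorem exists_scale_four (hO : Over E q M) (h4 : 4 ≤ finrank E Vs) {u : Vs} (hu0 : u ≠ 0) (hu : D.BE u u = 0)
    {l : E} (hl : l ≠ 0) : ∃ g ∈ M, (g : Ms) *ᵥ u = l • u := by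
  haveI : FiniteDimensional E Vs := Module.Finite.of_finite
  obtain ⟨z, hz, huz⟩ := D.exists_partner hu0 hu
  have hzu : D.BE z u = 1 := by rw [D.BE_conj, huz, D.cj_one]
  obtain ⟨s, hs, hs0⟩ := D.exists_skew_ne
  set U : Submodule E Vs := LinearMap.ker (D.func u) ⊓ LinearMap.ker (D.func z) with hU
  have hdim : finrank E U + 2 = finrank E Vs := by
    let L : Vs →ₗ[E] E × E := (D.func u).prod (D.func z)
    have hsurj : LinearMap.range L = ⊤ := LinearMap.range_eq_top.mpr fun ab => ⟨ab.1 • z + ab.2 • u, by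
      simp [L, D.BE_add_left, D.BE_smul_left, hu, hz, huz, hzu]⟩
    have hk : LinearMap.ker L = U := by simp [L, hU, LinearMap.ker_prod]
    have h1 := L.finrank_range_add_finrank_ker
    rw [hsurj, finrank_top, Module.finrank_prod, finrank_self, hk] at h1
    omega
  obtain ⟨v, hvU, hv⟩ : ∃ v ∈ U, D.BE v v ≠ 0 := by
    obtain ⟨p, hp, hp0, hpp⟩ := D.exists_isotropic_two (U := U) (by omega)
    obtain ⟨y, hy⟩ := D.exists_ne_zero_pair hp0
    set y' := y - D.BE y u • z - D.BE y z • u with hy'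
    have hy'U : y' ∈ U := by
      refine ⟨?_, ?_⟩ <;> simp [hy', D.BE_sub_left, D.BE_smul_left, hu, hz, huz, hzu]
    have hy'p : D.BE y' p ≠ 0 := by
      have h1 : D.BE u p = 0 := D.BE_symm hp.1
      have h2 : D.BE z p = 0 := D.BE_symm hp.2
      simpa [hy', D.BE_sub_left, D.BE_smul_left, h1, h2] using hy
    by_cases h : D.BE y' y' = 0
    swap
    · exact ⟨y', hy'U, h⟩
    obtain ⟨τ, hτ⟩ := D.exists_trace_one
    refine ⟨y' + (τ / D.BE p y') • p, U.add_mem hy'U (U.smul_mem _ hp), ?_⟩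
    have hpy : D.BE p y' ≠ 0 := fun e => hy'p (D.BE_symm e)
    rw [D.BE_add_left, D.BE_add_right, D.BE_add_right, D.BE_smul_left, D.BE_smul_left, D.BE_smul_right,
      D.BE_smul_right, h, hpp, D.BE_conj p y', ← D.cj_mul, div_mul_cancel₀ _ hpy, mul_zero, mul_zero, zero_add,
      add_zero, add_comm, hτ]
    exact one_ne_zero
  set γ := s / cj F q l with hγ
  obtain ⟨c, hc⟩ := D.exists_norm_eq (c := -(γ + cj F q γ) / D.BE v v) (by
    rw [div_eq_mul_inv, D.cj_mul, D.cj_inv, D.cj_neg, D.cj_add, D.cj_cj, D.BE_self_fixed, add_comm])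
  have hvu : D.BE v u = 0 := hvU.1
  have hvz : D.BE v z = 0 := hvU.2
  have huv : D.BE u v = 0 := D.BE_symm hvu
  have hzv : D.BE z v = 0 := D.BE_symm hvz
  set m := u + γ • z + c • v with hm
  have hmm : D.BE m m = 0 := by
    simp only [hm, D.BE_add_left, D.BE_add_right, D.BE_smul_left, D.BE_smul_right, hu, hz, huz, hzu, huv, hvu,
      hvz, hzv]
    have h3 : c * cj F q c * D.BE v v = -(γ + cj F q γ) := by rw [hc, div_mul_cancel₀ _ hv]
    linear_combination h3
  have hsz : D.BE (s • z) (s • z) = 0 := by rw [D.BE_smul_left, D.BE_smul_right, hz, mul_zero, mul_zero]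
  have hlu : D.BE (l • u) (l • u) = 0 := by rw [D.BE_smul_left, D.BE_smul_right, hu, mul_zero, mul_zero]
  have e1 : D.BE u (s • z) = -s := by rw [D.BE_smul_right, huz, mul_one, D.mem_skew.mp hs]
  have e2 : D.BE (s • z) m = s := by
    simp [hm, D.BE_add_right, D.BE_smul_right, D.BE_smul_left, hzu, hz, hzv]
  have e3 : D.BE m (l • u) = s := by
    simp only [hm, D.BE_add_left, D.BE_smul_right, D.BE_smul_left, hu, hzu, hvu, hγ]
    have := D.cj_ne_zero hl
    field_simp
    ring
  obtain ⟨g1, hg1, a1, -⟩ := step_move D hO hu hsz (by rw [e1]; exact neg_mem hs) (by rw [e1]; exact neg_ne_zero.mpr hs0)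
  obtain ⟨g2, hg2, a2, -⟩ := step_move D hO hsz hmm (by rw [e2]; exact hs) (by rw [e2]; exact hs0)
  obtain ⟨g3, hg3, a3, -⟩ := step_move D hO hmm hlu (by rw [e3]; exact hs) (by rw [e3]; exact hs0)
  exact ⟨g3 * g2 * g1, mul_mem (mul_mem hg3 hg2) hg1, by
    rw [Units.val_mul, Units.val_mul, ← mulVec_mulVec, ← mulVec_mulVec, a1, a2, a3]⟩

/-- A scalar of norm one is an element of the group. -/
theorem exists_scalar (hO : Over E q M) {l : E} (hl : l * cj F q l = 1) (hN : Algebra.norm F l = 1) :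
    ∃ g ∈ M, ∀ x : Vs, (g : Ms) *ᵥ x = l • x := by
  haveI : FiniteDimensional E Vs := Module.Finite.of_finite
  have hl0 : l ≠ 0 := fun e => zero_ne_one (by rw [← hl, e, zero_mul])
  set g := (Forms.glEquiv (Fin n) F).symm ((LinearEquiv.smulOfUnit (R := E) (M := Vs) (Units.mk0 l hl0)).restrictScalars F)
    with hg
  have hgx : ∀ x : Vs, (g : Ms) *ᵥ x = l • x := fun x => by
    rw [hg, Forms.glEquiv_symm_mulVec]; rfl
  refine ⟨g, hO.lin g (UnitaryMax.mem_suGL_iff.mpr ⟨fun x y => ?_, ?_⟩) fun e v => ?_, hgx⟩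
  · rw [hgx, hgx, D.h_eq, D.h_eq, D.BE_smul_left, D.BE_smul_right, ← mul_assoc, hl, one_mul]
  · have e : Matrix.toLin' (g : Ms) = (l • (LinearMap.id : Vs →ₗ[E] Vs)).restrictScalars F :=
      LinearMap.ext fun x => by rw [Matrix.toLin'_apply, hgx]; rfl
    rw [← LinearMap.det_toLin', e, LinearMap.det_restrictScalars, LinearMap.det_smul, LinearMap.det_id, mul_one,
      map_pow, hN, one_pow]
  · rw [hgx, hgx, smul_comm]

theorem exists_twist (h5 : finrank F E = 5) :
    ∃ l : E, l * cj F q l = 1 ∧ Algebra.norm F l = 1 ∧ ∀ f : F, cj F q l ≠ f • l := by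
  haveI := Fintype.ofFinite E
  have hq := D.two_le
  obtain ⟨g, hg⟩ := IsCyclic.exists_generator (α := Eˣ)
  obtain ⟨K, hK⟩ : ∃ K, K = q ^ 5 := ⟨_, rfl⟩
  have hord : orderOf g = (K + 1) * (K - 1) := by
    rw [orderOf_eq_card_of_forall_mem_zpowers hg, Nat.card_units, D.card_E, h5, ← hK, ← Nat.sq_sub_sq, one_pow]
  have hK32 : 32 ≤ K := hK ▸ (Nat.pow_le_pow_left hq 5)
  set l : E := ((g ^ ((K - 1) * (q + 1)) : Eˣ) : E) with hl
  refine ⟨l, ?_, ?_, fun f hf => ?_⟩
  · rw [cj, h5, ← hK, mul_comm, ← pow_succ, hl, ← Units.val_pow_eq_pow_val, ← pow_mul,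
      orderOf_dvd_iff_pow_eq_one.mp (by rw [hord]; exact ⟨q + 1, by ring⟩), Units.val_one]
  · apply (algebraMap F E).injective
    rw [FiniteField.algebraMap_norm_eq_pow_sum, map_one, Nat.card_eq_fintype_card, D.card, hl,
      ← Units.val_pow_eq_pow_val, ← pow_mul, orderOf_dvd_iff_pow_eq_one.mp, Units.val_one]
    rw [hord, h5]
    obtain ⟨j, hj⟩ : q - 1 ∣ K - 1 := by rw [hK]; simpa using Nat.sub_dvd_pow_sub_pow q 1 5
    refine ⟨j, ?_⟩
    simp only [Finset.sum_range_succ, Finset.sum_range_zero]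
    rw [hj]
    obtain ⟨p, rfl⟩ : ∃ p, q = p + 1 := ⟨q - 1, by omega⟩
    rw [Nat.add_sub_cancel] at hj ⊢
    have hK1 : K = p * j + 1 := by omega
    have hK' : (p + 1) ^ 5 = p * j + 1 := by rw [← hK1, hK]
    rw [hK1]
    have hz : ((p + 1) ^ 5 : ℤ) = p * j + 1 := by exact_mod_cast hK'
    zify
    have hp0 : (p : ℤ) ≠ 0 := by
      have : p ≠ 0 := by omega
      exact_mod_cast this
    have hS : ((p : ℤ) + 2) * (1 + ((p + 1) ^ 2) + ((p + 1) ^ 2) ^ 2 + ((p + 1) ^ 2) ^ 3 + ((p + 1) ^ 2) ^ 4)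
        = j * (p * j + 2) := by
      refine mul_left_cancel₀ hp0 ?_
      linear_combination ((p : ℤ) * j + 1 + (p + 1) ^ 5) * hz
    linear_combination ((p : ℤ) * j) * hS
  · have h1 : l ^ ((K - 1) * (q ^ 2 - 1)) = 1 := by
      have hl0 : l ≠ 0 := Units.ne_zero _
      have hlK : l ^ K = algebraMap F E f * l := by rw [← Algebra.smul_def, ← hf, cj, h5, hK]
      have hlK1 : l ^ (K - 1) = algebraMap F E f := by
        refine mul_right_cancel₀ hl0 ?_
        rw [← pow_succ, Nat.sub_add_cancel (by omega), hlK]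
      have hf0 : f ≠ 0 := fun e => pow_ne_zero K hl0 (by rw [hlK, e, map_zero, zero_mul])
      rw [pow_mul, hlK1, ← map_pow, ← D.card, FiniteField.pow_card_sub_one_eq_one f hf0, map_one]
    rw [hl, ← Units.val_pow_eq_pow_val, ← pow_mul] at h1
    have h2 := orderOf_dvd_of_pow_eq_one (Units.ext h1 : g ^ _ = 1)
    rw [hord] at h2
    have h3 : (K + 1) * (K - 1) ∣ (K - 1) * ((q + 1) * (q ^ 2 - 1) * (K - 1)) := by
      convert h2 using 1; ring
    rw [mul_comm (K + 1)] at h3
    have h4 : K + 1 ∣ (q + 1) * (q ^ 2 - 1) * (K - 1) := Nat.dvd_of_mul_dvd_mul_left (by omega) h3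
    set T := (q + 1) * (q ^ 2 - 1) with hT
    have h5' : K + 1 ∣ 2 * T := by
      have h6 : T * (K - 1) + 2 * T = T * (K + 1) := by
        rw [mul_comm 2 T, ← mul_add]; congr 1; omega
      exact (Nat.dvd_add_iff_right h4).mpr (h6 ▸ Dvd.intro_left T rfl)
    have hT2 : T ≤ 2 * q * q ^ 2 := Nat.mul_le_mul (by omega) (Nat.sub_le _ _)
    have hTpos : 0 < T := Nat.mul_pos (by omega) (by
      have : 2 ^ 2 ≤ q ^ 2 := Nat.pow_le_pow_left hq 2
      omega)
    have h7 := Nat.le_of_dvd (by omega) h5'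
    have h8 : 4 * q ^ 3 ≤ q ^ 5 := by
      rw [show 4 * q ^ 3 = 2 * 2 * q ^ 3 by ring, show q ^ 5 = q * q * q ^ 3 by ring]
      exact Nat.mul_le_mul_right _ (Nat.mul_le_mul hq hq)
    have h9 : 2 * q * q ^ 2 = 2 * q ^ 3 := by ring
    omega

/-- The twisting scalar in degree three. -/
theorem exists_twist_three (h3 : finrank F E = 3) (hq : 3 ≤ q) :
    ∃ l : E, l * cj F q l = 1 ∧ Algebra.norm F l = 1 ∧ ∀ f : F, cj F q l ≠ f • l := by
  haveI := Fintype.ofFinite E
  obtain ⟨g, hg⟩ := IsCyclic.exists_generator (α := Eˣ)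
  obtain ⟨K, hK⟩ : ∃ K, K = q ^ 3 := ⟨_, rfl⟩
  have hord : orderOf g = (K + 1) * (K - 1) := by
    rw [orderOf_eq_card_of_forall_mem_zpowers hg, Nat.card_units, D.card_E, h3, ← hK, ← Nat.sq_sub_sq, one_pow]
  have hK27 : 27 ≤ K := hK ▸ (Nat.pow_le_pow_left hq 3)
  set l : E := ((g ^ ((K - 1) * (q + 1)) : Eˣ) : E) with hl
  refine ⟨l, ?_, ?_, fun f hf => ?_⟩
  · rw [cj, h3, ← hK, mul_comm, ← pow_succ, hl, ← Units.val_pow_eq_pow_val, ← pow_mul,
      orderOf_dvd_iff_pow_eq_one.mp (by rw [hord]; exact ⟨q + 1, by ring⟩), Units.val_one]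
  · apply (algebraMap F E).injective
    rw [FiniteField.algebraMap_norm_eq_pow_sum, map_one, Nat.card_eq_fintype_card, D.card, hl,
      ← Units.val_pow_eq_pow_val, ← pow_mul, orderOf_dvd_iff_pow_eq_one.mp, Units.val_one]
    rw [hord, h3]
    obtain ⟨j, hj⟩ : q - 1 ∣ K - 1 := by rw [hK]; simpa using Nat.sub_dvd_pow_sub_pow q 1 3
    refine ⟨j, ?_⟩
    simp only [Finset.sum_range_succ, Finset.sum_range_zero]
    rw [hj]
    obtain ⟨p, rfl⟩ : ∃ p, q = p + 1 := ⟨q - 1, by omega⟩
    rw [Nat.add_sub_cancel] at hj ⊢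
    have hK1 : K = p * j + 1 := by omega
    have hK' : (p + 1) ^ 3 = p * j + 1 := by rw [← hK1, hK]
    rw [hK1]
    have hz : ((p + 1) ^ 3 : ℤ) = p * j + 1 := by exact_mod_cast hK'
    zify
    have hp0 : (p : ℤ) ≠ 0 := by
      have : p ≠ 0 := by omega
      exact_mod_cast this
    have hS : ((p : ℤ) + 2) * (1 + ((p + 1) ^ 2) + ((p + 1) ^ 2) ^ 2) = j * (p * j + 2) := by
      refine mul_left_cancel₀ hp0 ?_
      linear_combination ((p : ℤ) * j + 1 + (p + 1) ^ 3) * hz
    linear_combination ((p : ℤ) * j) * hS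
  · have h1 : l ^ ((K - 1) * (q ^ 2 - 1)) = 1 := by
      have hl0 : l ≠ 0 := Units.ne_zero _
      have hlK : l ^ K = algebraMap F E f * l := by rw [← Algebra.smul_def, ← hf, cj, h3, hK]
      have hlK1 : l ^ (K - 1) = algebraMap F E f := by
        refine mul_right_cancel₀ hl0 ?_
        rw [← pow_succ, Nat.sub_add_cancel (by omega), hlK]
      have hf0 : f ≠ 0 := fun e => pow_ne_zero K hl0 (by rw [hlK, e, map_zero, zero_mul])
      rw [pow_mul, hlK1, ← map_pow, ← D.card, FiniteField.pow_card_sub_one_eq_one f hf0, map_one]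
    rw [hl, ← Units.val_pow_eq_pow_val, ← pow_mul] at h1
    have h2 := orderOf_dvd_of_pow_eq_one (Units.ext h1 : g ^ _ = 1)
    rw [hord] at h2
    have h4' : (K + 1) * (K - 1) ∣ (K - 1) * ((q + 1) * (q ^ 2 - 1) * (K - 1)) := by
      convert h2 using 1; ring
    rw [mul_comm (K + 1)] at h4'
    have h4 : K + 1 ∣ (q + 1) * (q ^ 2 - 1) * (K - 1) := Nat.dvd_of_mul_dvd_mul_left (by omega) h4'
    set T := (q + 1) * (q ^ 2 - 1) with hT
    have h5' : K + 1 ∣ 2 * T := by
      have h6 : T * (K - 1) + 2 * T = T * (K + 1) := by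
        rw [mul_comm 2 T, ← mul_add]; congr 1; omega
      exact (Nat.dvd_add_iff_right h4).mpr (h6 ▸ Dvd.intro_left T rfl)
    obtain ⟨j, rfl⟩ : ∃ j, q = j + 3 := ⟨q - 3, by omega⟩
    obtain ⟨c, hc⟩ := h5'
    have hT' : T = (j + 4) * (j ^ 2 + 6 * j + 8) := by
      rw [hT, show (j + 3) ^ 2 - 1 = j ^ 2 + 6 * j + 8 by rw [Nat.sub_eq_iff_eq_add (Nat.one_le_pow _ _ (by omega))]; ring]
    rw [hT', hK] at hc
    -- cancel `q + 1` and compare with `q ^ 2 - q + 1`
    have e : 2 * (j ^ 2 + 6 * j + 8) = (j ^ 2 + 5 * j + 7) * c := by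
      refine Nat.eq_of_mul_eq_mul_left (show 0 < j + 4 by omega) ?_
      linear_combination hc
    have hc3 : c < 3 := by
      by_contra hnlt
      have h9 : (j ^ 2 + 5 * j + 7) * 3 ≤ (j ^ 2 + 5 * j + 7) * c := Nat.mul_le_mul le_rfl (by omega)
      omega
    interval_cases c <;> omega

theorem root_singular {H : Subgroup (GL (Fin n) F)} {v : Vs} (h : v ∈ UnitaryMax.root q H) : hh v v = 0 := h.1

variable (hO : Over E q M)
include hO

/-- Over five dimensions of `E`, with two dimensions left, root vectors fill an isotropic line. -/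
theorem line_five (hE : finrank F E = 5 ∨ (finrank F E = 3 ∧ 3 ≤ q)) {u : Vs} (hu : D.BE u u = 0) (hu0 : u ≠ 0)
    (hR : u ∈ UnitaryMax.root q M) {δ : Vs} (hδ0 : δ ≠ 0) (hδ : D.BE δ δ = 0) (hδR : δ ∈ UnitaryMax.root q M)
    (e : E) (he : e ≠ 0) : e • u ∈ UnitaryMax.root q M := by
  have hcard := D.card
  have hfixed : ∀ {x : Vs}, x ≠ 0 → D.BE x x = 0 → x ∈ UnitaryMax.root q M → ∀ k : E, cj F q k = k → k ≠ 0 →
      k • x ∈ UnitaryMax.root q M := by
    intro x hx0 hx hxR k hk hk0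
    obtain ⟨g, hg, hgx, -⟩ := exists_scale D hO hx0 hx hk hk0
    rw [← hgx]
    exact UnitaryMax.root_map hO.le hg hxR
  have hscal : ∀ {x : Vs}, x ∈ UnitaryMax.root q M → ∀ l : E, l * cj F q l = 1 → Algebra.norm F l = 1 →
      l • x ∈ UnitaryMax.root q M := by
    intro x hxR l hl hN
    obtain ⟨g, hg, hgx⟩ := exists_scalar D hO hl hN
    rw [← hgx]
    exact UnitaryMax.root_map hO.le hg hxR
  by_cases h2 : q = 2
  · have h5 : finrank F E = 5 := hE.resolve_right fun h => by omega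
    haveI := Fintype.ofFinite E
    have hcE : Fintype.card E = 1024 := by
      rw [← Nat.card_eq_fintype_card, D.card_E, h5, h2]; norm_num
    have h1 : e ^ 1023 = 1 := by
      have := FiniteField.pow_card_sub_one_eq_one e he
      rwa [hcE] at this
    have hm : ∀ j, e ^ (1023 * j) = 1 := fun j => by rw [pow_mul, h1, one_pow]
    obtain ⟨c, hc⟩ : e ^ 682 ∈ Set.range (algebraMap F E) := by
      classical
      obtain ⟨w, -, hw⟩ := Finset.exists_mem_notMem_of_card_lt_card (s := ({0, 1} : Finset F))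
        (t := (Finset.univ : Finset F)) (by rw [Finset.card_pair zero_ne_one, Finset.card_univ, hcard, h2]; norm_num)
      simp only [Finset.mem_insert, Finset.mem_singleton, not_or] at hw
      have hw3 : w ^ 3 = 1 := by
        have := FiniteField.pow_card_sub_one_eq_one w hw.1
        rwa [hcard, h2] at this
      have hw2 : w ^ 2 + w + 1 = 0 := (mul_eq_zero.mp
        (show (w - 1) * (w ^ 2 + w + 1) = 0 by linear_combination hw3)).resolve_left (sub_ne_zero.mpr hw.2)
      have hx3 : (e ^ 682) ^ 3 = 1 := by rw [← pow_mul, show 682 * 3 = 1023 * 2 by norm_num, hm]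
      set x := e ^ 682 with hx
      have hW : (algebraMap F E w) ^ 2 + algebraMap F E w + 1 = 0 := by
        rw [← map_pow, ← map_one (algebraMap F E), ← map_add, ← map_add, hw2, map_zero]
      rcases mul_eq_zero.mp (show (x - 1) * ((x - algebraMap F E w) * (x + 1 + algebraMap F E w)) = 0 by
          linear_combination hx3 - (x - 1) * hW) with h | h
      · exact ⟨1, by rw [map_one, sub_eq_zero.mp h]⟩
      rcases mul_eq_zero.mp h with h | h
      · exact ⟨w, (sub_eq_zero.mp h).symm⟩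
      · exact ⟨-1 - w, by rw [map_sub, map_neg, map_one]; linear_combination -h⟩
    have hk : cj F q (e ^ 528) = e ^ 528 := by
      rw [cj, h5, h2, ← pow_mul, show 528 * 2 ^ 5 = 528 + 1023 * 16 by norm_num, pow_add, hm, mul_one]
    have hl : e ^ 837 * cj F q (e ^ 837) = 1 := by
      rw [cj, h5, h2, ← pow_mul, ← pow_add, show 837 + 837 * 2 ^ 5 = 1023 * 27 by norm_num, hm]
    have hN : Algebra.norm F (e ^ 837) = 1 := by
      apply (algebraMap F E).injective
      rw [FiniteField.algebraMap_norm_eq_pow_sum, map_one, Nat.card_eq_fintype_card, hcard, h5, h2, ← pow_mul,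
        show 837 * ∑ i ∈ Finset.range 5, (2 ^ 2) ^ i = 1023 * 279 by simp [Finset.sum_range_succ], hm]
    have hu' : D.BE ((e ^ 837) • u) ((e ^ 837) • u) = 0 := by
      rw [D.BE_smul_left, D.BE_smul_right, hu, mul_zero, mul_zero]
    have h := hfixed (smul_ne_zero (pow_ne_zero _ he) hu0) hu' (hscal hR _ hl hN) _ hk (pow_ne_zero _ he)
    have h' := UnitaryMax.root_smul hcard h c
    rw [← algebraMap_smul E c, smul_smul, smul_smul, hc, ← pow_add, ← pow_add,
      show 682 + (528 + 837) = 1 + 1023 * 2 by norm_num, pow_add, hm, pow_one, mul_one] at h'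
    exact h'
  obtain ⟨l, hl, hlN, hlF⟩ := hE.elim (exists_twist D) fun h => exists_twist_three D h.1 h.2
  have hl0 : l ≠ 0 := fun e => zero_ne_one (by rw [← hl, e, zero_mul])
  obtain ⟨z, hz, huz⟩ := D.exists_partner hu0 hu
  have hz0 : z ≠ 0 := fun e => zero_ne_one (α := E) (by rw [← huz, e, D.BE_zero_right])
  have hzu : D.BE z u = 1 := by rw [D.BE_conj, huz, D.cj_one]
  obtain ⟨g, hg, c₀, hc₀, hgz⟩ := exists_line_move D hO hδ0 hδ hz0 hz
  have hzR : c₀ • z ∈ UnitaryMax.root q M := hgz ▸ UnitaryMax.root_map hO.le hg hδR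
  have hcz : D.BE (c₀ • z) (c₀ • z) = 0 := by rw [D.BE_smul_left, D.BE_smul_right, hz, mul_zero, mul_zero]
  obtain ⟨δ₀, hδ₀, hδ₀0⟩ := UnitaryMax.exists_skew_ne D.card
  obtain ⟨τ, hτ⟩ := UnitaryMax.exists_trace_one hcard
  -- a root vector with prescribed pairing along the line
  have hproj : ∀ e' : E, e' ≠ 0 → ∃ x ∈ UnitaryMax.root q M, ∀ a : E, hh (a • u) x = tr (a * cj F q e') := by
    intro e' he'
    have hlcj : l ≠ cj F q l := fun h => hlF 1 (by rw [one_smul]; exact h.symm)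
    set d := l - cj F q l with hd
    have hd0 : d ≠ 0 := sub_ne_zero.mpr hlcj
    set k2 := (e' / c₀ - cj F q (e' / c₀)) / d with hk2
    have hk2f : cj F q k2 = k2 := by
      rw [hk2, div_eq_mul_inv (_ - _), D.cj_mul, D.cj_inv, D.cj_sub, D.cj_cj, hd, D.cj_sub, D.cj_cj]
      rw [show cj F q l - l = -(l - cj F q l) by ring, inv_neg]
      ring
    set k1 := e' / c₀ - l * k2 with hk1
    have hk2d : k2 * d = e' / c₀ - cj F q (e' / c₀) := by rw [hk2, div_mul_cancel₀ _ hd0]
    have hk1f : cj F q k1 = k1 := by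
      rw [hk1, D.cj_sub, D.cj_mul, hk2f]
      linear_combination hk2d
    have he'' : e' = k1 * c₀ + l * k2 * c₀ := by
      rw [hk1, sub_mul, div_mul_cancel₀ _ hc₀]; ring
    have hBE : ∀ (a b : E) (y : Vs), D.BE u y = 1 → hh (a • u) (b • y) = tr (a * cj F q b) := fun a b y hy => by
      rw [D.h_eq, D.BE_smul_left, D.BE_smul_right, hy, mul_one]
    by_cases hk20 : k2 = 0
    · have hk10 : k1 ≠ 0 := fun h => he' (by rw [he'', h, hk20]; simp)
      refine ⟨k1 • c₀ • z, hfixed (smul_ne_zero hc₀ hz0) hcz hzR k1 hk1f hk10, fun a => ?_⟩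
      rw [smul_smul, hBE _ _ _ huz, he'', hk20, mul_zero, zero_mul, add_zero]
    by_cases hk10 : k1 = 0
    · refine ⟨l • k2 • c₀ • z, hscal (hfixed (smul_ne_zero hc₀ hz0) hcz hzR k2 hk2f hk20) l hl hlN, fun a => ?_⟩
      rw [smul_smul, smul_smul, hBE _ _ _ huz, he'', hk10, zero_mul, zero_add]
    set x1 := (k1 * c₀) • z with hx1
    set ρ := -(k1 * c₀ * (cj F q l * k2 * cj F q c₀)) with hρ
    have hρ0 : ρ ≠ 0 := neg_ne_zero.mpr (mul_ne_zero (mul_ne_zero hk10 hc₀)
      (mul_ne_zero (mul_ne_zero (D.cj_ne_zero hl0) hk20) (D.cj_ne_zero hc₀)))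
    have hρF : ∀ f : F, ρ ≠ f • cj F q ρ := by
      intro f hf
      refine hlF f ?_
      rw [hρ, D.cj_neg, D.cj_mul, D.cj_mul, D.cj_mul, D.cj_mul, D.cj_cj, D.cj_cj, hk1f, hk2f, Algebra.smul_def] at hf
      rw [Algebra.smul_def]
      refine mul_right_cancel₀ (mul_ne_zero (mul_ne_zero hk10 hc₀) (mul_ne_zero hk20 (D.cj_ne_zero hc₀))) ?_
      linear_combination (-1 : E) * hf
    obtain ⟨e0, he0, he0'⟩ := exists_trace_pair D (D.cj_ne_zero hρ0) hρF δ₀ δ₀
    set s := algebraMap F E τ * e0 - cj F q (algebraMap F E τ * e0) with hs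
    have hss : s ∈ D.skew := by rw [D.mem_skew, hs, D.cj_sub, D.cj_cj, neg_sub]
    have hsρ : tr (s * ρ) = δ₀ := by
      rw [hs, sub_mul, map_sub, show cj F q (algebraMap F E τ * e0) * ρ = cj F q (τ • (cj F q ρ * e0)) by
        rw [Algebra.smul_def, D.cj_mul, D.cj_mul, D.cj_mul, D.cj_cj]; ring,
        D.trace_cj, show algebraMap F E τ * e0 * ρ = τ • (ρ * e0) by rw [Algebra.smul_def]; ring, map_smul, map_smul,
        he0, he0', smul_eq_mul, mul_pow]
      linear_combination δ₀ * hτ - τ ^ q * hδ₀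
    obtain ⟨g2, hg2, hg2z, hg2l⟩ : ∃ g2 ∈ M, (g2 : Ms) *ᵥ z = z + s • u ∧
        ∀ (e : E) v, (g2 : Ms) *ᵥ (e • v) = e • ((g2 : Ms) *ᵥ v) :=
      ⟨D.T u s hu, hO.T_mem D u hss hu, by rw [D.T_apply, hzu, mul_one], D.T_smul u s hu⟩
    set x2 := (l * k2 * c₀) • (z + s • u) with hx2
    have hx1R : x1 ∈ UnitaryMax.root q M := by
      rw [hx1, ← smul_smul]; exact hfixed (smul_ne_zero hc₀ hz0) hcz hzR k1 hk1f hk10
    have hx2R : x2 ∈ UnitaryMax.root q M := by
      have h := UnitaryMax.root_map hO.le hg2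
        (hscal (hfixed (smul_ne_zero hc₀ hz0) hcz hzR k2 hk2f hk20) l hl hlN)
      rwa [smul_smul, smul_smul, hg2l, hg2z] at h
    have h12 : hh x1 x2 = δ₀ := by
      rw [D.h_eq, hx1, hx2, D.BE_smul_left, D.BE_smul_right, D.BE_add_right, D.BE_smul_right, hz, hzu, zero_add,
        mul_one, D.mem_skew.mp hss, D.cj_mul, D.cj_mul, hk2f, ← hsρ, hρ]
      ring_nf
    have h21 : hh x2 x1 = δ₀ ^ q := by rw [← D.hconj, h12]
    refine ⟨x1 + x2, UnitaryMax.root_add hcard hO.le hx1R hx2R (by rw [h12]; exact hδ₀0) ?_, fun a => ?_⟩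
    · rw [Forms.herm_add_left hcard, Forms.herm_add_right hcard, Forms.herm_add_right hcard, hx1R.1, hx2R.1, h12,
        h21]
      linear_combination hδ₀
    · have huy : D.BE u (z + s • u) = 1 := by rw [D.BE_add_right, D.BE_smul_right, huz, hu, mul_zero, add_zero]
      rw [Forms.herm_add_right hcard, hx1, hx2, hBE _ _ _ huz, hBE _ _ _ huy, ← map_add, ← mul_add, ← D.cj_add,
        ← he'']
  -- the line is closed under addition
  have hadd : ∀ x y : E, x • u ∈ UnitaryMax.root q M → y • u ∈ UnitaryMax.root q M →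
      (x + y) • u ∈ UnitaryMax.root q M := by
    intro x y hx hy
    by_cases hy0 : y = 0
    · rwa [hy0, add_zero]
    by_cases hf : ∃ f : F, x = f • y
    · obtain ⟨f, rfl⟩ := hf
      rw [show f • y + y = (f + 1) • y by rw [add_smul, one_smul], smul_assoc]
      exact UnitaryMax.root_smul hcard hy _
    push Not at hf
    obtain ⟨t, ht, ht0, ht1⟩ : ∃ t : F, t ^ q = t ∧ t ≠ 0 ∧ t + 1 ≠ 0 := by
      by_cases h1 : (1 : F) + 1 = 0
      · classical
        haveI : CharP F 2 := CharTwo.of_one_ne_zero_of_two_eq_zero one_ne_zero (by rw [← one_add_one_eq_two]; exact h1)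
        obtain ⟨g, hg⟩ := IsCyclic.exists_generator (α := Fˣ)
        have hq := D.two_le
        have hord : orderOf g = (q + 1) * (q - 1) := by
          rw [orderOf_eq_card_of_forall_mem_zpowers hg, Nat.card_eq_fintype_card, Fintype.card_units, D.card,
            ← Nat.sq_sub_sq, one_pow]
        refine ⟨((g ^ (q + 1) : Fˣ) : F), ?_, Units.ne_zero _, fun e => ?_⟩
        · rw [← Units.val_pow_eq_pow_val, ← pow_mul]
          congr 1
          have h1 : (q + 1) * q = orderOf g + (q + 1) := by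
            rw [hord, ← Nat.mul_succ, Nat.succ_eq_add_one, Nat.sub_add_cancel (by omega)]
          rw [h1, pow_add, pow_orderOf_eq_one, one_mul]
        · have e' := CharTwo.add_eq_zero.mp e
          have h1 := Nat.le_of_dvd (by omega) (orderOf_dvd_of_pow_eq_one (Units.ext e' : g ^ (q + 1) = 1))
          have : (q + 1) * 2 ≤ (q + 1) * (q - 1) := Nat.mul_le_mul le_rfl (by omega)
          omega
      · exact ⟨1, one_pow q, one_ne_zero, h1⟩
    obtain ⟨e', ha', hb'⟩ := exists_trace_pair D hy0 hf t 1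
    have he' : cj F q e' ≠ 0 := D.cj_ne_zero fun h => one_ne_zero (by rw [← hb', h, mul_zero, map_zero])
    obtain ⟨r, hrR, hr⟩ := hproj _ he'
    simp only [D.cj_cj] at hr
    set a := δ₀ ^ q with ha
    have haq : a ^ q = δ₀ := by rw [ha, Forms.pow_q_pow_q hcard]
    have harR : a • r ∈ UnitaryMax.root q M := UnitaryMax.root_smul hcard hrR a
    have hsk : a + a ^ q = 0 := by rw [haq, ha]; linear_combination hδ₀
    have ha0 : a ≠ 0 := pow_ne_zero _ hδ₀0
    have h1 : hh (x • u) (a • r) = δ₀ * t := by rw [Forms.herm_smul_right hcard, hr, ha', haq]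
    have h1' : hh (a • r) (x • u) = a * t := by rw [← D.hconj, h1, mul_pow, ht, ha]
    have h2 : hh (y • u) (a • r) = δ₀ := by rw [Forms.herm_smul_right hcard, hr, hb', haq, mul_one]
    have h2' : hh (a • r) (y • u) = a := by rw [← D.hconj, h2, ha]
    have hbu : ∀ b b' : E, hh (b • u) (b' • u) = 0 := fun b b' => by
      rw [D.h_eq, D.BE_smul_left, D.BE_smul_right, hu, mul_zero, mul_zero, map_zero]
    have hn := harR.1
    have hs1 := UnitaryMax.root_add hcard hO.le hx harR (by rw [h1]; exact mul_ne_zero hδ₀0 ht0) (by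
      simp only [Forms.herm_add_left hcard, Forms.herm_add_right hcard, hbu, hn, h1, h1']
      linear_combination t * hδ₀)
    have hs2 := UnitaryMax.root_add hcard hO.le hs1 hy
      (by rw [Forms.herm_add_left hcard, hbu, h2', zero_add]; exact ha0) (by
      simp only [Forms.herm_add_left hcard, Forms.herm_add_right hcard, hbu, hn, h1, h1', h2, h2']
      linear_combination (t + 1) * hδ₀)
    have hs3 := UnitaryMax.root_add hcard hO.le hs2 (UnitaryMax.root_smul hcard harR (-1)) (by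
      rw [Forms.herm_smul_right hcard, Forms.herm_add_left hcard, Forms.herm_add_left hcard, h1, hn, h2, add_zero,
        show δ₀ * t + δ₀ = δ₀ * (t + 1) by ring]
      exact mul_ne_zero (pow_ne_zero _ (neg_ne_zero.mpr one_ne_zero)) (mul_ne_zero hδ₀0 ht1)) (by
      rw [show x • u + a • r + y • u + (-1 : F) • a • r = (x + y) • u by rw [add_smul]; module]
      exact hbu _ _)
    rwa [show x • u + a • r + y • u + (-1 : F) • a • r = (x + y) • u by rw [add_smul]; module] at hs3
  let C : Submodule F E :=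
    { carrier := {a | a • u ∈ UnitaryMax.root q M}
      add_mem' := fun {x y} hx hy => hadd x y hx hy
      zero_mem' := by
        simp only [Set.mem_setOf_eq]
        rw [zero_smul, ← zero_smul F u]; exact UnitaryMax.root_smul hcard hR 0
      smul_mem' := fun f x hx => by
        simp only [Set.mem_setOf_eq] at hx ⊢
        rw [smul_assoc]; exact UnitaryMax.root_smul hcard hx f }
  have hall := D.top_of_skew C (fun s hs => by
    rcases eq_or_ne s 0 with rfl | hs0
    · exact C.zero_mem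
    show s • u ∈ UnitaryMax.root q M
    have hw : algebraMap F E δ₀ ≠ 0 := by simpa using hδ₀0
    have hwk : cj F q (s / algebraMap F E δ₀) = s / algebraMap F E δ₀ := by
      rw [div_eq_mul_inv, D.cj_mul, D.cj_inv, D.cj_algebraMap, D.mem_skew.mp hs, eq_neg_of_add_eq_zero_right hδ₀,
        map_neg, inv_neg, neg_mul_neg]
    have h := UnitaryMax.root_smul hcard (hfixed hu0 hu hR _ hwk (div_ne_zero hs0 hw)) δ₀
    rwa [← algebraMap_smul E δ₀, smul_smul, mul_div_cancel₀ _ hw] at h) e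
  exact hall

/-- All root subgroups. -/
theorem root_all (hd : finrank E Vs ≠ 3) (hr : (finrank F E = 5 ∨ (finrank F E = 3 ∧ 3 ≤ q)) ∨ 4 ≤ finrank E Vs) {δ : Vs} (hδ0 : δ ≠ 0)
    (hδ : D.BE δ δ = 0) (hδR : δ ∈ UnitaryMax.root q M) (v : Vs) (hv : hh v v = 0) :
    v ∈ UnitaryMax.root q M := by
  have hd2 : 2 ≤ finrank E Vs := by
    haveI : FiniteDimensional E Vs := Module.Finite.of_finite
    by_contra hlt
    obtain ⟨z, -, hδz⟩ := D.exists_partner hδ0 hδ
    have h1 : finrank E Vs = 1 := by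
      have : 0 < finrank E Vs := Module.finrank_pos_iff_exists_ne_zero.mpr ⟨δ, hδ0⟩
      omega
    obtain ⟨e, rfl⟩ := (finrank_eq_one_iff_of_nonzero' δ hδ0).mp h1 z
    rw [D.BE_smul_right, hδ, mul_zero] at hδz
    exact zero_ne_one hδz
  have hzero : (0 : Vs) ∈ UnitaryMax.root q M := by
    rw [← zero_smul F δ]; exact UnitaryMax.root_smul D.card hδR 0
  have hline : ∀ u : Vs, D.BE u u = 0 → u ∈ UnitaryMax.root q M := by
    intro u hu
    rcases eq_or_ne u 0 with rfl | hu0
    · exact hzero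
    obtain ⟨g, hg, c, hc, hgu⟩ := exists_line_move D hO hδ0 hδ hu0 hu
    have hcR : c • u ∈ UnitaryMax.root q M := hgu ▸ UnitaryMax.root_map hO.le hg hδR
    have hcu : D.BE (c • u) (c • u) = 0 := by rw [D.BE_smul_left, D.BE_smul_right, hu, mul_zero, mul_zero]
    rcases hr with h5 | h4
    · have h := line_five D hO h5 hcu (smul_ne_zero hc hu0) hcR hδ0 hδ hδR c⁻¹ (inv_ne_zero hc)
      rwa [smul_smul, inv_mul_cancel₀ hc, one_smul] at h
    · obtain ⟨g', hg', e'⟩ := exists_scale_four D hO h4 (smul_ne_zero hc hu0) hcu (inv_ne_zero hc)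
      have h := UnitaryMax.root_map hO.le hg' hcR
      rwa [e', smul_smul, inv_mul_cancel₀ hc, one_smul] at h
  by_cases hvv : D.BE v v = 0
  · exact hline v hvv
  obtain ⟨u, hu, hvu⟩ := D.exists_isotropic_pairing hd2 (x := v) fun e => hvv (by rw [e, D.BE_zero_left])
  obtain ⟨t, ht⟩ := D.exists_fill hu hvu
  obtain ⟨x, hx⟩ : ∃ x, x = -t • u := ⟨_, rfl⟩
  obtain ⟨y, hy⟩ : ∃ y, y = v + t • u := ⟨_, rfl⟩
  rw [← hy] at ht
  have hxx : D.BE x x = 0 := by rw [hx, D.BE_smul_left, D.BE_smul_right, hu, mul_zero, mul_zero]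
  have hvxy : v = x + y := by rw [hx, hy, neg_smul]; abel
  set b := D.BE x y with hb
  have hyx : D.BE y x = cj F q b := D.BE_conj x y
  have hbb : D.BE v v = b + cj F q b := by
    rw [hvxy, D.BE_add_left, D.BE_add_right, D.BE_add_right, hxx, ht, hyx, zero_add, add_zero]
  have hb0 : b ≠ 0 := fun e => hvv (by rw [hbb, e, D.cj_zero, add_zero])
  have htrb : hh x y + hh y x = 0 := by
    rw [D.h_eq, D.h_eq, hyx, ← map_add, ← hbb, ← D.h_eq]; exact hv
  obtain ⟨s, hs, hs0⟩ : ∃ s ∈ D.skew, tr s ≠ 0 := by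
    by_contra hno
    push Not at hno
    obtain ⟨e, he⟩ := Algebra.trace_surjective F E 1
    exact one_ne_zero (he ▸ LinearMap.mem_ker.mp (D.top_of_skew (LinearMap.ker tr) hno e))
  by_cases hxy : hh x y = 0
  swap
  · rw [hvxy]
    exact UnitaryMax.root_add D.card hO.le (hline x hxx) (hline y ht) hxy (by rw [← hvxy]; exact hv)
  set e := s / b with he
  have heb : e * b = s := div_mul_cancel₀ _ hb0
  have hx' : D.BE ((1 - e) • x) ((1 - e) • x) = 0 := by rw [D.BE_smul_left, D.BE_smul_right, hxx, mul_zero, mul_zero]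
  have hy' : D.BE (y + e • x) (y + e • x) = 0 := by
    rw [D.BE_add_left, D.BE_add_right, D.BE_add_right, D.BE_smul_left, D.BE_smul_left, D.BE_smul_right,
      D.BE_smul_right, ht, hxx, ← hb, hyx, ← D.cj_mul, heb, D.mem_skew.mp hs]
    ring
  have hsum : v = (1 - e) • x + (y + e • x) := by rw [hvxy, sub_smul, one_smul]; abel
  rw [hsum]
  refine UnitaryMax.root_add D.card hO.le (hline _ hx') (hline _ hy') ?_ (by rw [← hsum]; exact hv)
  rw [D.h_eq, D.BE_smul_left, D.BE_add_right, D.BE_smul_right, hxx, mul_zero, add_zero, ← hb, sub_mul, one_mul, heb,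
    map_sub, ← D.h_eq, hxy, zero_sub]
  exact neg_ne_zero.mpr hs0

end Cfsg.Agent.Lib.SUExt
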