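import Cfsg.Agent.Lib.SUExt.Basic

/-!
Isotropic vectors over `E`, the shears along an isotropic line, and moving isotropic vectors.
-/

set_option autoImplicit false
set_option linter.unusedSectionVars false
set_option linter.style.haveILetI false

namespace Cfsg.Agent.Lib.SUExt

open Module Matrix Cfsg.Agent.Lib

variable {F : Type*} [Field F] [Fintype F] {E : Type*} [Field E] [Algebra F E] [Finite E] {n q : ℕ}
  [Module E (Fin n → F)] [IsScalarTower F E (Fin n → F)]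

local notation "Vs" => (Fin n → F)
local notation "Ms" => Matrix (Fin n) (Fin n) F

theorem exists_pow_succ_eq (Q : ℕ) (hQ : Nat.card E = Q ^ 2) {c : E} (hc : c ≠ 0) (hcQ : c ^ Q = c) :
    ∃ l : E, l ^ (Q + 1) = c := by
  haveI := Fintype.ofFinite E
  have hQ2 : 2 ≤ Q := Forms.two_le_of_card_sq (F := E) (by rw [← Nat.card_eq_fintype_card, hQ])
  obtain ⟨g, hg⟩ := IsCyclic.exists_generator (α := Eˣ)
  obtain ⟨i, hi⟩ := (Submonoid.mem_powers_iff _ _).mp (mem_powers_iff_mem_zpowers.mpr (hg (Units.mk0 c hc)))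
  have h1 : g ^ (i * (Q - 1)) = 1 := by
    rw [pow_mul, hi]
    ext
    rw [Units.val_pow_eq_pow_val, Units.val_mk0, Units.val_one]
    refine mul_right_cancel₀ hc ?_
    rw [← pow_succ, Nat.sub_add_cancel (by omega), hcQ, one_mul]
  have hord : orderOf g = (Q + 1) * (Q - 1) := by
    rw [orderOf_eq_card_of_forall_mem_zpowers hg, Nat.card_units, hQ, ← Nat.sq_sub_sq, one_pow]
  have h2 := orderOf_dvd_of_pow_eq_one h1
  rw [hord] at h2
  obtain ⟨j, rfl⟩ := Nat.dvd_of_mul_dvd_mul_right (by omega : 0 < Q - 1) h2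
  refine ⟨((g ^ j : Eˣ) : E), ?_⟩
  rw [← Units.val_pow_eq_pow_val, ← pow_mul, mul_comm, hi, Units.val_mk0]

namespace HData

variable (D : HData (F := F) (n := n) E q)
include D

/-- The norm onto the fixed field is surjective. -/
theorem exists_norm_eq {c : E} (hc : cj F q c = c) : ∃ l : E, l * cj F q l = c := by
  rcases eq_or_ne c 0 with rfl | hc0
  · exact ⟨0, zero_mul _⟩
  obtain ⟨l, hl⟩ := exists_pow_succ_eq _ D.card_E hc0 hc
  exact ⟨l, by rw [cj, mul_comm, ← pow_succ, hl]⟩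

theorem exists_trace_one : ∃ t : E, t + cj F q t = 1 := by
  haveI := Fintype.ofFinite E
  have hE : Fintype.card E = (q ^ finrank F E) ^ 2 := by rw [← Nat.card_eq_fintype_card, D.card_E]
  obtain ⟨t, ht⟩ := Forms.exists_add_conj_eq_one (Forms.qPowHom_ne_id hE) (Forms.qPowHom_qPowHom hE)
  exact ⟨t, by rw [Forms.qPowHom_apply] at ht; exact ht⟩

theorem exists_skew_ne : ∃ s ∈ D.skew, s ≠ 0 := by
  by_contra hno
  push Not at hno
  exact one_ne_zero (α := E) ((Submodule.mem_bot F).mp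
    (D.top_of_skew ⊥ (fun a ha => (Submodule.mem_bot F).mpr (hno a ha)) 1))

/-- Completing a vector to an isotropic one along an isotropic vector. -/
theorem exists_fill {x u : Vs} (hu : D.BE u u = 0) (hxu : D.BE x u ≠ 0) :
    ∃ t : E, D.BE (x + t • u) (x + t • u) = 0 := by
  obtain ⟨τ, hτ⟩ := D.exists_trace_one
  have hux : D.BE u x = cj F q (D.BE x u) := D.BE_conj x u
  refine ⟨-(D.BE x x * τ) / D.BE u x, ?_⟩
  rw [D.BE_add_left, D.BE_add_right, D.BE_add_right, D.BE_smul_left, D.BE_smul_left, D.BE_smul_right,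
    D.BE_smul_right, hu, div_eq_mul_inv, D.cj_mul, D.cj_inv, D.cj_neg, D.cj_mul, D.BE_self_fixed, hux, D.cj_cj]
  have h1 := D.cj_ne_zero hxu
  field_simp
  linear_combination (-(D.BE x x * (D.BE x u * cj F q (D.BE x u)))) * hτ

theorem exists_ne_zero_pair {u : Vs} (hu : u ≠ 0) : ∃ v, D.BE v u ≠ 0 := by
  by_contra hno
  push Not at hno
  exact hu (D.BE_nondeg fun v => D.BE_symm (hno v))

/-- An isotropic partner of an isotropic vector. -/
theorem exists_partner {u : Vs} (hu : u ≠ 0) (huu : D.BE u u = 0) :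
    ∃ z, D.BE z z = 0 ∧ D.BE u z = 1 := by
  obtain ⟨v, hv⟩ := D.exists_ne_zero_pair hu
  obtain ⟨t, ht⟩ := D.exists_fill huu hv
  have h1 : D.BE u (v + t • u) = cj F q (D.BE v u) := by
    rw [D.BE_add_right, D.BE_smul_right, huu, mul_zero, add_zero, D.BE_conj v u]
  refine ⟨(D.BE v u)⁻¹ • (v + t • u), ?_, ?_⟩
  · rw [D.BE_smul_left, D.BE_smul_right, ht, mul_zero, mul_zero]
  · rw [D.BE_smul_right, h1, D.cj_inv, inv_mul_cancel₀ (D.cj_ne_zero hv)]

theorem exists_isotropic_two {U : Submodule E Vs} (hU : 2 ≤ finrank E U) :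
    ∃ p ∈ U, p ≠ 0 ∧ D.BE p p = 0 := by
  haveI : FiniteDimensional E Vs := Module.Finite.of_finite
  obtain ⟨x, hx, hx0⟩ := Submodule.exists_mem_ne_zero_of_ne_bot (p := U) fun e => by
    rw [e, finrank_bot] at hU; omega
  by_cases hxx : D.BE x x = 0
  · exact ⟨x, hx, hx0, hxx⟩
  obtain ⟨x', hx', hx'0⟩ := Submodule.exists_mem_ne_zero_of_ne_bot (p := U ⊓ LinearMap.ker (D.func x)) fun e => by
    have h1 := ((D.func x).comp U.subtype).finrank_range_add_finrank_ker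
    have h4 := Submodule.finrank_le (LinearMap.range ((D.func x).comp U.subtype))
    rw [finrank_self] at h4
    have h5 : finrank E (LinearMap.ker ((D.func x).comp U.subtype)) = finrank E ↥(U ⊓ LinearMap.ker (D.func x)) := by
      rw [← Submodule.finrank_map_subtype_eq, LinearMap.ker_comp, Submodule.map_comap_subtype]
    rw [h5, e, finrank_bot] at h1
    omega
  have hxx' : D.BE x' x = 0 := hx'.2
  by_cases hxx2 : D.BE x' x' = 0
  · exact ⟨x', hx'.1, hx'0, hxx2⟩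
  obtain ⟨l, hl⟩ := D.exists_norm_eq (c := -(D.BE x x / D.BE x' x')) (by
    rw [D.cj_neg, div_eq_mul_inv, D.cj_mul, D.cj_inv, D.BE_self_fixed, D.BE_self_fixed])
  refine ⟨x + l • x', U.add_mem hx (U.smul_mem _ hx'.1), fun e => hxx ?_, ?_⟩
  · have := congrArg (fun y => D.BE y x) e
    simpa [D.BE_add_left, D.BE_smul_left, hxx', D.BE_zero_left] using this
  · rw [D.BE_add_left, D.BE_add_right, D.BE_add_right, D.BE_smul_left, D.BE_smul_left, D.BE_smul_right,
      D.BE_smul_right, hxx', D.BE_symm hxx']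
    have h2 : l * cj F q l * D.BE x' x' = -D.BE x x := by
      rw [hl, neg_mul, div_mul_cancel₀ _ hxx2]
    linear_combination h2

theorem exists_isotropic (hd : 2 ≤ finrank E Vs) : ∃ u : Vs, u ≠ 0 ∧ D.BE u u = 0 := by
  obtain ⟨p, -, h0, hp⟩ := D.exists_isotropic_two (U := ⊤) (by rwa [finrank_top])
  exact ⟨p, h0, hp⟩

/-- An isotropic vector not orthogonal to a given one. -/
theorem exists_isotropic_pairing (hd : 2 ≤ finrank E Vs) {x : Vs} (hx : x ≠ 0) :
    ∃ p, D.BE p p = 0 ∧ D.BE x p ≠ 0 := by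
  obtain ⟨u, hu0, hu⟩ := D.exists_isotropic hd
  by_cases hxu : D.BE x u = 0
  swap
  · exact ⟨u, hu, hxu⟩
  obtain ⟨s1, hs1⟩ := D.exists_ne_zero_pair hu0
  obtain ⟨s2, hs2⟩ : ∃ s, D.BE x s ≠ 0 := by
    by_contra hno
    push Not at hno
    exact hx (D.BE_nondeg hno)
  obtain ⟨s, hsu, hxs⟩ : ∃ s, D.BE s u ≠ 0 ∧ D.BE x s ≠ 0 := by
    by_cases h1 : D.BE x s1 = 0
    swap
    · exact ⟨s1, hs1, h1⟩
    by_cases h2 : D.BE s2 u = 0
    swap
    · exact ⟨s2, h2, hs2⟩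
    exact ⟨s1 + s2, by rw [D.BE_add_left, h2, add_zero]; exact hs1,
      by rw [D.BE_add_right, h1, zero_add]; exact hs2⟩
  obtain ⟨t, ht⟩ := D.exists_fill hu hsu
  exact ⟨s + t • u, ht, by rw [D.BE_add_right, D.BE_smul_right, hxu, mul_zero, add_zero]; exact hxs⟩

theorem span_isotropic (hd : 2 ≤ finrank E Vs) (x : Vs) :
    x ∈ Submodule.span E {p : Vs | D.BE p p = 0} := by
  rcases eq_or_ne x 0 with rfl | hx
  · exact Submodule.zero_mem _
  obtain ⟨p, hp, hxp⟩ := D.exists_isotropic_pairing hd hx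
  obtain ⟨t, ht⟩ := D.exists_fill hp hxp
  have h := Submodule.sub_mem _ (Submodule.subset_span (R := E) (show (x + t • p) ∈ {p : Vs | D.BE p p = 0} from ht))
    (Submodule.smul_mem _ t (Submodule.subset_span (show p ∈ {p : Vs | D.BE p p = 0} from hp)))
  rwa [add_sub_cancel_right] at h

/-- Inside the perpendicular of an isotropic vector. -/
theorem exists_isotropic_perp (hd3 : finrank E Vs ≠ 3) {w : Vs} (hw0 : w ≠ 0) (hw : D.BE w w = 0)
    {y : Vs} (hy : D.BE y w = 0) (hyw : ∀ e : E, y ≠ e • w) :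
    ∃ p, D.BE p p = 0 ∧ D.BE p w = 0 ∧ D.BE y p ≠ 0 := by
  haveI : FiniteDimensional E Vs := Module.Finite.of_finite
  obtain ⟨z, hz, hwz⟩ := D.exists_partner hw0 hw
  have hzw : D.BE z w = 1 := by rw [D.BE_conj, hwz, D.cj_one]
  set U : Submodule E Vs := LinearMap.ker (D.func w) ⊓ LinearMap.ker (D.func z) with hU
  set y' := y - D.BE y z • w with hy'
  have hy'U : y' ∈ U := by
    refine ⟨?_, ?_⟩ <;> simp [hy', D.BE_sub_left, D.BE_smul_left, hy, hw, hwz]
  have hy'0 : y' ≠ 0 := fun e => hyw _ (sub_eq_zero.mp e)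
  have hdim : finrank E U + 2 = finrank E Vs := by
    let L : Vs →ₗ[E] E × E := (D.func w).prod (D.func z)
    have hsurj : LinearMap.range L = ⊤ := LinearMap.range_eq_top.mpr fun ab => ⟨ab.1 • z + ab.2 • w, by
      simp [L, D.BE_add_left, D.BE_smul_left, hw, hz, hwz, hzw]⟩
    have hk : LinearMap.ker L = U := by simp [L, hU, LinearMap.ker_prod]
    have h1 := L.finrank_range_add_finrank_ker
    rw [hsurj, finrank_top, Module.finrank_prod, finrank_self, hk] at h1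
    omega
  have h2U : 2 ≤ finrank E U := by
    have : 0 < finrank E U := Module.finrank_pos_iff_exists_ne_zero.mpr ⟨⟨y', hy'U⟩, fun e => hy'0 (congrArg Subtype.val e)⟩
    omega
  have hyU : ∀ s ∈ U, D.BE y s = D.BE y' s := fun s hs => by
    have : D.BE w s = 0 := D.BE_symm hs.1
    simp [hy', D.BE_sub_left, D.BE_smul_left, this]
  have proj : ∀ s : Vs, ∃ s' ∈ U, ∀ a ∈ U, D.BE a s' = D.BE a s := fun s => by
    refine ⟨s - D.BE s w • z - D.BE s z • w, ⟨?_, ?_⟩, fun a ha => ?_⟩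
    · simp [D.BE_sub_left, D.BE_smul_left, hw, hzw]
    · simp [D.BE_sub_left, D.BE_smul_left, hz, hwz]
    · rw [D.BE_sub_right, D.BE_sub_right, D.BE_smul_right, D.BE_smul_right, show D.BE a w = 0 from ha.1,
        show D.BE a z = 0 from ha.2]
      ring
  obtain ⟨p₀, hp₀, hp₀0, hp₀p⟩ := D.exists_isotropic_two h2U
  by_cases h1 : D.BE y' p₀ = 0
  swap
  · exact ⟨p₀, hp₀p, hp₀.1, by rw [hyU _ hp₀]; exact h1⟩
  obtain ⟨s1, hs1U, hs1⟩ : ∃ s ∈ U, D.BE p₀ s ≠ 0 := by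
    obtain ⟨v, hv⟩ := D.exists_ne_zero_pair hp₀0
    obtain ⟨s, hs, e⟩ := proj v
    exact ⟨s, hs, by rw [e _ hp₀]; exact fun h => hv (D.BE_symm h)⟩
  obtain ⟨s2, hs2U, hs2⟩ : ∃ s ∈ U, D.BE y' s ≠ 0 := by
    obtain ⟨v, hv⟩ := D.exists_ne_zero_pair hy'0
    obtain ⟨s, hs, e⟩ := proj v
    exact ⟨s, hs, by rw [e _ hy'U]; exact fun h => hv (D.BE_symm h)⟩
  obtain ⟨s, hsU, hsp, hys⟩ : ∃ s ∈ U, D.BE p₀ s ≠ 0 ∧ D.BE y' s ≠ 0 := by
    by_cases e1 : D.BE y' s1 = 0
    swap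
    · exact ⟨s1, hs1U, hs1, e1⟩
    by_cases e2 : D.BE p₀ s2 = 0
    swap
    · exact ⟨s2, hs2U, e2, hs2⟩
    exact ⟨s1 + s2, U.add_mem hs1U hs2U, by rw [D.BE_add_right, e2, add_zero]; exact hs1,
      by rw [D.BE_add_right, e1, zero_add]; exact hs2⟩
  obtain ⟨t, ht⟩ := D.exists_fill hp₀p (x := s) fun e => hsp (D.BE_symm e)
  have hpU : s + t • p₀ ∈ U := U.add_mem hsU (U.smul_mem _ hp₀)
  exact ⟨_, ht, hpU.1, by rw [hyU _ hpU, D.BE_add_right, D.BE_smul_right, h1, mul_zero, add_zero]; exact hys⟩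

end HData

variable {M : Subgroup (GL (Fin n) F)}

/-- The shear `y ↦ y + (a * BE y p) • w` on the perpendicular of `w`. -/
theorem exists_shear (D : HData (F := F) (n := n) E q) (hO : Over E q M) {w p : Vs} (hw : D.BE w w = 0)
    (hp : D.BE p p = 0) (hpw : D.BE p w = 0) (a : E) :
    ∃ h ∈ M, ∀ y : Vs, D.BE y w = 0 → (h : Ms) *ᵥ y = y + (a * D.BE y p) • w := by
  obtain ⟨b, hb, hb0⟩ := D.exists_skew_ne
  set l := cj F q (a / b) with hl
  set p' := l • p with hp'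
  have h1 : D.BE p' p' = 0 := by rw [hp', D.BE_smul_left, D.BE_smul_right, hp, mul_zero, mul_zero]
  have h2 : D.BE p' w = 0 := by rw [hp', D.BE_smul_left, hpw, mul_zero]
  have h3 : D.BE w p' = 0 := D.BE_symm h2
  have hwp : D.BE (w + p') (w + p') = 0 := by
    rw [D.BE_add_left, D.BE_add_right, D.BE_add_right, hw, h1, h2, h3]; simp
  refine ⟨D.T (w + p') b hwp * D.T w (-b) hw * D.T p' (-b) h1,
    mul_mem (mul_mem (hO.T_mem D _ hb _) (hO.T_mem D _ (neg_mem hb) _)) (hO.T_mem D _ (neg_mem hb) _), fun y hy => ?_⟩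
  simp only [Units.val_mul, ← mulVec_mulVec, D.T_apply, D.BE_add_left, D.BE_add_right, D.BE_smul_left, hy, h1, h2,
    h3, hw, mul_zero, add_zero, zero_smul, zero_add]
  have e : D.BE y p' = cj F q l * D.BE y p := D.BE_smul_right l y p
  rw [e, hl, D.cj_cj]
  match_scalars <;> field_simp
  ring

theorem step_move (D : HData (F := F) (n := n) E q) (hO : Over E q M) {x z : Vs} (hx : D.BE x x = 0)
    (hz : D.BE z z = 0) (hs : D.BE x z ∈ D.skew) (h0 : D.BE x z ≠ 0) :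
    ∃ k ∈ M, (k : Ms) *ᵥ x = z ∧ ∀ (e : E) v, (k : Ms) *ᵥ (e • v) = e • ((k : Ms) *ᵥ v) := by
  have hu : D.BE (z - x) (z - x) = 0 := by
    rw [D.BE_sub_left, D.BE_sub_right, D.BE_sub_right, hx, hz, D.BE_conj x z, D.mem_skew.mp hs]
    ring
  refine ⟨D.T (z - x) (D.BE x z)⁻¹ hu, hO.T_mem D _ (D.skew_inv hs) hu, ?_, D.T_smul _ _ hu⟩
  rw [D.T_apply, D.BE_sub_right, hx, sub_zero, inv_mul_cancel₀ h0, one_smul, add_sub_cancel]

/-- Scaling an isotropic vector by a fixed scalar. -/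
theorem exists_scale (D : HData (F := F) (n := n) E q) (hO : Over E q M) {u : Vs} (hu0 : u ≠ 0)
    (hu : D.BE u u = 0) {k : E} (hk : cj F q k = k) (hk0 : k ≠ 0) :
    ∃ g ∈ M, (g : Ms) *ᵥ u = k • u ∧ ∀ (e : E) v, (g : Ms) *ᵥ (e • v) = e • ((g : Ms) *ᵥ v) := by
  obtain ⟨z, hz, huz⟩ := D.exists_partner hu0 hu
  obtain ⟨s, hs, hs0⟩ := D.exists_skew_ne
  have hsz : D.BE (s • z) (s • z) = 0 := by rw [D.BE_smul_left, D.BE_smul_right, hz, mul_zero, mul_zero]
  have hku : D.BE (k • u) (k • u) = 0 := by rw [D.BE_smul_left, D.BE_smul_right, hu, mul_zero, mul_zero]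
  obtain ⟨g1, hg1, e1, l1⟩ := step_move D hO hu hsz (by rw [D.BE_smul_right, huz, mul_one, D.mem_skew.mp hs]; exact neg_mem hs)
    (by rw [D.BE_smul_right, huz, mul_one]; exact D.cj_ne_zero hs0)
  obtain ⟨g2, hg2, e2, l2⟩ := step_move D hO hsz hku
    (by rw [D.BE_smul_left, D.BE_smul_right, hk, D.BE_conj u z, huz, D.cj_one, mul_one]; exact D.skew_mul_fixed hs hk)
    (by rw [D.BE_smul_left, D.BE_smul_right, hk, D.BE_conj u z, huz, D.cj_one, mul_one]; exact mul_ne_zero hs0 hk0)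
  exact ⟨g2 * g1, mul_mem hg2 hg1, by rw [Units.val_mul, ← mulVec_mulVec, e1, e2],
    fun e v => by simp only [Units.val_mul, ← mulVec_mulVec, l1, l2]⟩

/-- Moving a line of isotropic vectors onto another. -/
theorem exists_line_move (D : HData (F := F) (n := n) E q) (hO : Over E q M) {u w : Vs} (hu0 : u ≠ 0)
    (hu : D.BE u u = 0) (hw0 : w ≠ 0) (hw : D.BE w w = 0) :
    ∃ g ∈ M, ∃ c : E, c ≠ 0 ∧ (g : Ms) *ᵥ u = c • w := by
  have hd : 2 ≤ finrank E Vs := by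
    haveI : FiniteDimensional E Vs := Module.Finite.of_finite
    by_contra hlt
    obtain ⟨z, -, huz⟩ := D.exists_partner hu0 hu
    have h1 : finrank E Vs = 1 := by
      have : 0 < finrank E Vs := Module.finrank_pos_iff_exists_ne_zero.mpr ⟨u, hu0⟩
      omega
    obtain ⟨e, rfl⟩ := (finrank_eq_one_iff_of_nonzero' u hu0).mp h1 z
    rw [D.BE_smul_right, hu, mul_zero] at huz
    exact zero_ne_one huz
  obtain ⟨s, hs, hs0⟩ := D.exists_skew_ne
  have direct : ∀ {u w : Vs}, D.BE u u = 0 → D.BE w w = 0 → D.BE u w ≠ 0 →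
      ∃ g ∈ M, ∃ c : E, c ≠ 0 ∧ (g : Ms) *ᵥ u = c • w := by
    intro u w hu hw huw
    obtain ⟨g, hg, e, -⟩ := step_move D hO hu (z := cj F q (s / D.BE u w) • w)
      (by rw [D.BE_smul_left, D.BE_smul_right, hw, mul_zero, mul_zero])
      (by rw [D.BE_smul_right, D.cj_cj, div_mul_cancel₀ _ huw]; exact hs)
      (by rw [D.BE_smul_right, D.cj_cj, div_mul_cancel₀ _ huw]; exact hs0)
    exact ⟨g, hg, _, D.cj_ne_zero (div_ne_zero hs0 huw), e⟩
  by_cases huw : D.BE u w = 0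
  swap
  · exact direct hu hw huw
  obtain ⟨p, hp, hup, hwp⟩ : ∃ p, D.BE p p = 0 ∧ D.BE u p ≠ 0 ∧ D.BE p w ≠ 0 := by
    obtain ⟨z, hz, huz⟩ := D.exists_partner hu0 hu
    by_cases h1 : D.BE z w = 0
    swap
    · exact ⟨z, hz, by rw [huz]; exact one_ne_zero, h1⟩
    obtain ⟨v, hv, hwv⟩ := D.exists_partner hw0 hw
    have hvw : D.BE v w = 1 := by rw [D.BE_conj, hwv, D.cj_one]
    by_cases h2 : D.BE u v = 0
    swap
    · exact ⟨v, hv, h2, by rw [hvw]; exact one_ne_zero⟩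
    obtain ⟨t, ht⟩ := D.exists_fill hu (x := z + v) (by
      rw [D.BE_add_left, D.BE_conj u z, huz, D.BE_conj u v, h2, D.cj_zero, D.cj_one, add_zero]; exact one_ne_zero)
    exact ⟨_, ht, by rw [D.BE_add_right, D.BE_smul_right, hu, D.BE_add_right, huz, h2]; simp,
      by rw [D.BE_add_left, D.BE_smul_left, huw, D.BE_add_left, h1, hvw]; simp⟩
  obtain ⟨g1, hg1, c1, hc1, e1⟩ := direct hu hp hup
  obtain ⟨g2, hg2, c2, hc2, e2⟩ := direct (u := c1 • p) (by rw [D.BE_smul_left, D.BE_smul_right, hp, mul_zero, mul_zero])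
    hw (by rw [D.BE_smul_left]; exact mul_ne_zero hc1 hwp)
  exact ⟨g2 * g1, mul_mem hg2 hg1, c2, hc2, by rw [Units.val_mul, ← mulVec_mulVec, e1, e2]⟩

end Cfsg.Agent.Lib.SUExt
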