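import Cfsg.Agent.Lib.SUExt.Geom

/-!
An element moving an isotropic `E`-line off the `E`-lines gives one meeting an isotropic line in a hyperplane.
-/

set_option autoImplicit false
set_option linter.unusedSectionVars false
set_option linter.style.haveILetI false

namespace Cfsg.Agent.Lib.SUExt

open Module Matrix Cfsg.Agent.Lib

/-- A quadratic map into a group of less than the square root size has a non-trivial zero. -/
theorem exists_zero_quadratic (p : ℕ) [Fact p.Prime] {A W : Type*} [AddCommGroup A] [AddCommGroup W] [Module (ZMod p) A]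
    [Module (ZMod p) W] [Finite A] [Finite W] (Φ : A →+ A →+ W)
    (h : Nat.card W ^ 2 < Nat.card A) : ∃ x : A, x ≠ 0 ∧ Φ x x = 0 := by
  classical
  haveI : SMulCommClass (ZMod p) (ZMod p) W := smulCommClass_self _ _
  let Φ' := LinearMap.mk₂ (ZMod p) (M := A) (Nₗ := A) (Pₗ := W) (fun a b => Φ a b)
    (fun a a' b => by simp) (fun c a b => ZMod.map_smul (Φ.flip b) c a) (fun a b b' => by simp)
    (fun c a b => ZMod.map_smul (Φ a) c b)
  rw [Module.natCard_eq_pow_finrank (K := ZMod p) (V := W), Module.natCard_eq_pow_finrank (K := ZMod p) (V := A),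
    Nat.card_zmod, ← pow_mul] at h
  have hlt := (Nat.pow_lt_pow_iff_right (Fact.out : p.Prime).one_lt).mp h
  let bA := Module.finBasis (ZMod p) A
  let bW := Module.finBasis (ZMod p) W
  let f : Fin (finrank (ZMod p) W) → MvPolynomial (Fin (finrank (ZMod p) A)) (ZMod p) := fun l =>
    ∑ i, ∑ j, MvPolynomial.C (bW.repr (Φ' (bA i) (bA j)) l) * MvPolynomial.X i * MvPolynomial.X j
  have hdeg : ∀ l, (f l).totalDegree ≤ 2 := fun l =>
    (MvPolynomial.totalDegree_finsetSum_le fun i _ => MvPolynomial.totalDegree_finsetSum_le fun j _ => by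
      refine (MvPolynomial.totalDegree_mul _ _).trans ?_
      refine (Nat.add_le_add (MvPolynomial.totalDegree_mul _ _) le_rfl).trans ?_
      simp [MvPolynomial.totalDegree_X, MvPolynomial.totalDegree_C])
  have hp := char_dvd_card_solutions_of_sum_lt p (K := ZMod p) (σ := Fin (finrank (ZMod p) A))
    (s := Finset.univ) (f := f) (by
      refine lt_of_le_of_lt (Finset.sum_le_sum fun l _ => hdeg l) ?_
      simp only [Finset.sum_const, Finset.card_univ, Fintype.card_fin, smul_eq_mul]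
      omega)
  have heval : ∀ c : Fin (finrank (ZMod p) A) → ZMod p, ∀ l,
      MvPolynomial.eval c (f l) = bW.repr (Φ' (∑ i, c i • bA i) (∑ i, c i • bA i)) l := fun c l => by
    simp only [f, map_sum, map_mul, MvPolynomial.eval_C, MvPolynomial.eval_X, map_smul, LinearMap.sum_apply,
      LinearMap.smul_apply, Finsupp.coe_finsetSum, Finset.sum_apply, Finsupp.coe_smul, Pi.smul_apply, smul_eq_mul,
      Finset.mul_sum]
    rw [Finset.sum_comm]
    exact Finset.sum_congr rfl fun i _ => Finset.sum_congr rfl fun j _ => by ring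
  obtain ⟨c, hc, hc0⟩ : ∃ c : Fin (finrank (ZMod p) A) → ZMod p,
      (∀ l ∈ Finset.univ, MvPolynomial.eval c (f l) = 0) ∧ c ≠ 0 := by
    by_contra hno
    push Not at hno
    have h1 : Fintype.card {x : Fin (finrank (ZMod p) A) → ZMod p //
        ∀ l ∈ Finset.univ, MvPolynomial.eval x (f l) = 0} = 1 :=
      Fintype.card_eq_one_iff.mpr ⟨⟨0, fun l _ => by rw [heval]; simp⟩, fun x => Subtype.ext (hno x.1 x.2)⟩
    exact (Fact.out : p.Prime).one_lt.ne' (Nat.dvd_one.mp (hp.trans (dvd_of_eq (by convert h1 using 2))))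
  refine ⟨∑ i, c i • bA i, fun e => hc0 (funext fun i => Fintype.linearIndependent_iff.mp bA.linearIndependent c e i),
    bW.repr.injective (Finsupp.ext fun l => ?_)⟩
  show bW.repr (Φ' _ _) l = _
  rw [map_zero, Finsupp.zero_apply, ← heval]
  exact hc l (Finset.mem_univ l)

variable {F : Type*} [Field F] [Fintype F] {E : Type*} [Field E] [Algebra F E] [Finite E] {n q : ℕ}
  [Module E (Fin n → F)] [IsScalarTower F E (Fin n → F)]

local notation "Vs" => (Fin n → F)
local notation "Ms" => Matrix (Fin n) (Fin n) F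
local notation "hh" => Cfsg.hermForm n F q

/-- The `E`-line of a vector, over `F`. -/
def ln (E : Type*) [Field E] [Algebra F E] [Module E Vs] [IsScalarTower F E Vs] (v : Vs) : Submodule F Vs :=
  LinearMap.range ((LinearMap.toSpanSingleton E Vs v).restrictScalars F)

theorem mem_ln {v x : Vs} : x ∈ ln E v ↔ ∃ e : E, e • v = x := Iff.rfl

theorem smul_mem_ln (e : E) (v : Vs) : e • v ∈ ln E v := ⟨e, rfl⟩

theorem self_mem_ln (v : Vs) : v ∈ ln E v := ⟨1, one_smul E v⟩

theorem finrank_ln {v : Vs} (hv : v ≠ 0) : finrank F ↥(ln E v) = finrank F E :=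
  LinearMap.finrank_range_of_inj (smul_left_injective E hv)

/-- The image of an `E`-line. -/
def img (E : Type*) [Field E] [Algebra F E] [Module E Vs] [IsScalarTower F E Vs] (g : GL (Fin n) F) (v : Vs) :
    Submodule F Vs := (ln E v).map (Matrix.mulVecLin (g : Ms))

theorem mem_img {g : GL (Fin n) F} {v x : Vs} : x ∈ img E g v ↔ ∃ e : E, (g : Ms) *ᵥ (e • v) = x :=
  ⟨fun ⟨_, ⟨e, rfl⟩, h⟩ => ⟨e, h⟩, fun ⟨e, h⟩ => ⟨_, ⟨e, rfl⟩, h⟩⟩

theorem mulVec_gl_injective (g : GL (Fin n) F) : Function.Injective fun x : Vs => (g : Ms) *ᵥ x := fun a b e => by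
  simpa [UnitaryMax.inv_mulVec_mulVec] using congrArg (((g⁻¹ : GL (Fin n) F) : Ms) *ᵥ ·) e

theorem finrank_map_gl (g : GL (Fin n) F) (X : Submodule F Vs) :
    finrank F ↥(X.map (Matrix.mulVecLin (g : Ms))) = finrank F X :=
  (Submodule.equivMapOfInjective (Matrix.mulVecLin (g : Ms)) (mulVec_gl_injective g) X).finrank_eq.symm

theorem finrank_img (g : GL (Fin n) F) {v : Vs} (hv : v ≠ 0) : finrank F ↥(img E g v) = finrank F E := by
  rw [img, finrank_map_gl, finrank_ln hv]

theorem ln_eq {v w x : Vs} (hx : x ≠ 0) (hv : x ∈ ln E v) (hw : x ∈ ln E w) : ln E v = ln E w := by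
  have key : ∀ {v}, x ∈ ln E v → ln E v = ln E x := by
    intro v h
    obtain ⟨e, rfl⟩ := h
    have he : e ≠ 0 := fun h0 => hx (by simp [h0])
    ext y
    constructor
    · rintro ⟨f, rfl⟩
      exact ⟨f / e, by simp [smul_smul, div_mul_cancel₀ _ he]⟩
    · rintro ⟨f, rfl⟩
      exact ⟨f * e, by simp [smul_smul]⟩
  rw [key hv, key hw]

/-- Some image of an isotropic line, not itself a line, meets an isotropic line in dimension at least `k`. -/
def Meet (D : HData (F := F) (n := n) E q) (M : Subgroup (GL (Fin n) F)) (k : ℕ) : Prop :=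
  ∃ g ∈ M, ∃ v w : Vs, v ≠ 0 ∧ w ≠ 0 ∧ D.BE v v = 0 ∧ D.BE w w = 0 ∧ img E g v ≠ ln E w ∧
    k ≤ finrank F ↥(img E g v ⊓ ln E w)

variable {M : Subgroup (GL (Fin n) F)} (D : HData (F := F) (n := n) E q)

theorem isotropic_img (hO : Over E q M) {g : GL (Fin n) F} (hg : g ∈ M) {v : Vs} (hv : D.BE v v = 0) {x z : Vs}
    (hx : x ∈ img E g v) (hz : z ∈ img E g v) : hh x z = 0 := by
  obtain ⟨e, rfl⟩ := mem_img.mp hx
  obtain ⟨f, rfl⟩ := mem_img.mp hz
  rw [UnitaryMax.apply_K (hO.le hg), D.h_eq, D.BE_smul_left, D.BE_smul_right, hv, mul_zero, mul_zero, map_zero]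

include D in
theorem exists_fixed_trace : ∃ k : E, cj F q k = k ∧ Algebra.trace F E k ≠ 0 := by
  obtain ⟨s, hs, hs0⟩ := D.exists_skew_ne
  by_contra hno
  push Not at hno
  obtain ⟨t, ht⟩ := Algebra.trace_surjective F E 1
  have h := D.top_of_skew (LinearMap.ker ((Algebra.trace F E).comp (LinearMap.mulRight F s))) (fun a ha => by
    refine hno (a * s) ?_
    rw [D.cj_mul, D.mem_skew.mp ha, D.mem_skew.mp hs, neg_mul_neg]) (t / s)
  simp only [LinearMap.mem_ker, LinearMap.comp_apply, LinearMap.mulRight_apply] at h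
  rw [div_mul_cancel₀ _ hs0, ht] at h
  exact one_ne_zero h

theorem exists_isotropic_mem (hO : Over E q M) {g : GL (Fin n) F} (hg : g ∈ M) {v : Vs} (hv0 : v ≠ 0)
    (hv : D.BE v v = 0) : ∃ x ∈ img E g v, x ≠ 0 ∧ D.BE x x = 0 := by
  obtain ⟨p, hpc⟩ := CharP.exists F
  haveI := Fact.mk (CharP.char_is_prime F p)
  haveI : CharP E p := charP_of_injective_algebraMap (algebraMap F E).injective p
  let W : AddSubgroup E :=
    { carrier := {b | cj F q b = b ∧ Algebra.trace F E b = 0}
      add_mem' := fun {a b} ha hb => ⟨by rw [D.cj_add, ha.1, hb.1], by rw [map_add, ha.2, hb.2, add_zero]⟩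
      zero_mem' := ⟨D.cj_zero, map_zero _⟩
      neg_mem' := fun {a} ha => ⟨by rw [D.cj_neg, ha.1], by rw [map_neg, ha.2, neg_zero]⟩ }
  have hWcard : Nat.card W < q ^ finrank F E := by
    obtain ⟨s, hs, hs0⟩ := D.exists_skew_ne
    obtain ⟨k, hk, hkt⟩ := exists_fixed_trace D
    let f : W → D.skew := fun b => ⟨s * b, D.skew_mul_fixed hs b.2.1⟩
    have hf : Function.Injective f := fun a b e =>
      Subtype.ext (mul_left_cancel₀ hs0 (congrArg Subtype.val e))
    rw [← D.card_skew]
    haveI := Fintype.ofFinite W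
    haveI := Fintype.ofFinite D.skew
    rw [Nat.card_eq_fintype_card, Nat.card_eq_fintype_card]
    refine Fintype.card_lt_of_injective_of_notMem f hf (b := ⟨s * k, D.skew_mul_fixed hs hk⟩) ?_
    rintro ⟨b, e⟩
    exact hkt ((mul_left_cancel₀ hs0 (congrArg Subtype.val e) : (b : E) = k) ▸ b.2.2)
  have hpE : ∀ x : E, p • x = 0 := fun x => by rw [nsmul_eq_mul, CharP.cast_eq_zero, zero_mul]
  have hpW : ∀ x : W, p • x = 0 := fun x => Subtype.ext (hpE x)
  have hpA : ∀ x : img E g v, p • x = 0 := fun x => Subtype.ext (funext fun i => by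
    show p • ((x : Vs) i) = 0
    rw [nsmul_eq_mul, CharP.cast_eq_zero, zero_mul])
  obtain ⟨π, hπ⟩ : ∃ π : E →+ W, ∀ b : W, π b = b := by
    letI := AddCommGroup.zmodModule hpE
    letI := AddCommGroup.zmodModule hpW
    obtain ⟨π, hπ⟩ := (W.subtype.toZModLinearMap p).exists_leftInverse_of_injective
      (LinearMap.ker_eq_bot.mpr Subtype.val_injective)
    exact ⟨π.toAddMonoidHom, fun b => LinearMap.congr_fun hπ b⟩
  -- splitting the hermitian form along a trace one element
  obtain ⟨τ, hτ⟩ := D.exists_trace_one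
  let Φ : img E g v →+ img E g v →+ W :=
    AddMonoidHom.mk' (fun x => AddMonoidHom.mk' (fun z => π (τ * D.BE x z))
        (fun z z' => by simp [D.BE_add_right, mul_add]))
      (fun x x' => AddMonoidHom.ext fun z => by simp [D.BE_add_left, mul_add])
  let Φ' : img E g v →+ img E g v →+ W :=
    AddMonoidHom.mk' (fun x => AddMonoidHom.mk' (fun z => π (cj F q τ * D.BE x z))
        (fun z z' => by simp [D.BE_add_right, mul_add]))
      (fun x x' => AddMonoidHom.ext fun z => by simp [D.BE_add_left, mul_add])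
  have hcard : Nat.card W ^ 2 < Nat.card (img E g v) := by
    rw [Module.natCard_eq_pow_finrank (K := F) (V := img E g v), finrank_img g hv0, Nat.card_eq_fintype_card (α := F), D.card,
      ← pow_mul, mul_comm 2, pow_mul]
    exact Nat.pow_lt_pow_left hWcard two_ne_zero
  letI := AddCommGroup.zmodModule hpA
  letI := AddCommGroup.zmodModule hpW
  obtain ⟨x, hx0, hx⟩ := exists_zero_quadratic p (Φ + Φ') hcard
  refine ⟨x, x.2, fun e => hx0 (Subtype.ext e), ?_⟩
  have hmem : D.BE (x : Vs) x ∈ W :=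
    ⟨D.BE_self_fixed _, by rw [← D.h_eq]; exact isotropic_img D hO hg hv x.2 x.2⟩
  have h : Φ x x + Φ' x x = 0 := hx
  simp only [Φ, Φ', AddMonoidHom.mk'_apply, ← map_add, ← add_mul, hτ, one_mul] at h
  rw [show π (D.BE (x : Vs) x) = ⟨_, hmem⟩ from hπ ⟨_, hmem⟩] at h
  exact congrArg Subtype.val h

theorem meet_one (hO : Over E q M) {g : GL (Fin n) F} (hg : g ∈ M) {v : Vs} (hv0 : v ≠ 0) (hv : D.BE v v = 0)
    {e : E} (he : ∀ f : E, (g : Ms) *ᵥ (e • v) ≠ f • ((g : Ms) *ᵥ v)) : Meet D M 1 := by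
  obtain ⟨x, hx, hx0, hxx⟩ := exists_isotropic_mem D hO hg hv0 hv
  refine ⟨g, hg, v, x, hv0, hx0, hv, hxx, fun h => ?_, ?_⟩
  · have h1 : (g : Ms) *ᵥ v ∈ ln E x := h ▸ mem_img.mpr ⟨1, by rw [one_smul]⟩
    have h2 : (g : Ms) *ᵥ (e • v) ∈ ln E x := h ▸ mem_img.mpr ⟨e, rfl⟩
    have hgv : (g : Ms) *ᵥ v ≠ 0 := fun h0 => hv0 (mulVec_gl_injective g (by simpa using h0))
    rw [ln_eq hgv h1 (self_mem_ln _)] at h2
    obtain ⟨f, hf⟩ := h2
    exact he f hf.symm
  · refine Submodule.one_le_finrank_iff.mpr fun h => hx0 ?_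
    have hm : x ∈ img E g v ⊓ ln E x := ⟨hx, self_mem_ln _⟩
    rw [h] at hm
    simpa using hm

theorem finrank_meet_lt {g : GL (Fin n) F} {v w : Vs} (hv : v ≠ 0) (hw : w ≠ 0) (hne : img E g v ≠ ln E w) :
    finrank F ↥(img E g v ⊓ ln E w) < finrank F E := by
  by_contra hle
  push Not at hle
  refine hne ((Submodule.eq_of_le_of_finrank_le inf_le_left ?_).symm.trans
    (Submodule.eq_of_le_of_finrank_le inf_le_right ?_))
  · rwa [finrank_img g hv]
  · rwa [finrank_ln hw]

/-- An element fixing the intersection and keeping more of the image gives a larger intersection. -/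
theorem meet_shift {g h : GL (Fin n) F} (hg : g ∈ M) (hhM : h ∈ M) {v : Vs} (hv : v ≠ 0) (hvv : D.BE v v = 0)
    {X : Submodule F Vs} (hX : X ≤ img E g v) (hfix : ∀ x ∈ X, (h : Ms) *ᵥ x = x) {y : Vs} (hy : y ∈ img E g v)
    (hhy : (h : Ms) *ᵥ y ∈ img E g v) (hyX : y ∉ X) {y' : Vs} (hy' : y' ∈ img E g v)
    (hhy' : (h : Ms) *ᵥ y' ∉ img E g v) : Meet D M (finrank F X + 1) := by
  refine ⟨g⁻¹ * h * g, mul_mem (mul_mem (inv_mem hg) hhM) hg, v, v, hv, hv, hvv, hvv, fun e => ?_, ?_⟩
  · apply hhy'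
    obtain ⟨f, rfl⟩ := mem_img.mp hy'
    have h1 : ((g⁻¹ * h * g : GL (Fin n) F) : Ms) *ᵥ (f • v) ∈ ln E v := e ▸ mem_img.mpr ⟨f, rfl⟩
    obtain ⟨f', hf'⟩ := h1
    refine mem_img.mpr ⟨f', ?_⟩
    have hf'' : f' • v = ((g⁻¹ * h * g : GL (Fin n) F) : Ms) *ᵥ (f • v) := hf'
    rw [hf'', Units.val_mul, Units.val_mul, ← mulVec_mulVec, ← mulVec_mulVec, UnitaryMax.mulVec_inv_mulVec]
  · set Z := img E g v ⊓ (img E g v).comap (Matrix.mulVecLin (h : Ms)) with hZ
    have hXZ : X < Z := lt_of_le_of_ne (fun x hx => ⟨hX hx, by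
      show (h : Ms) *ᵥ x ∈ img E g v
      rw [hfix x hx]; exact hX hx⟩) fun e => hyX (e ▸ ⟨hy, hhy⟩)
    have hlt := Submodule.finrank_lt_finrank_of_lt hXZ
    have hle : Z.map (Matrix.mulVecLin ((g⁻¹ * h : GL (Fin n) F) : Ms)) ≤ img E (g⁻¹ * h * g) v ⊓ ln E v := by
      rintro _ ⟨z, ⟨hz1, hz2⟩, rfl⟩
      obtain ⟨f, rfl⟩ := mem_img.mp hz1
      refine ⟨mem_img.mpr ⟨f, by simp [Matrix.mulVec_mulVec, mul_assoc]⟩, ?_⟩
      obtain ⟨f', hf'⟩ := mem_img.mp hz2
      refine ⟨f', ?_⟩
      show f' • v = ((g⁻¹ * h : GL (Fin n) F) : Ms) *ᵥ ((g : Ms) *ᵥ (f • v))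
      rw [Units.val_mul, ← mulVec_mulVec]
      show f' • v = ((g⁻¹ : GL (Fin n) F) : Ms) *ᵥ ((h : Ms) *ᵥ ((g : Ms) *ᵥ (f • v)))
      rw [show (h : Ms) *ᵥ ((g : Ms) *ᵥ (f • v)) = (g : Ms) *ᵥ (f' • v) from hf'.symm, UnitaryMax.inv_mulVec_mulVec]
    have h2 := Submodule.finrank_mono hle
    rw [finrank_map_gl] at h2
    omega

include D in
/-- The pair of coefficients used when the intersection has codimension two in degree five. -/
theorem exists_good_pair (h5 : Nat.Prime (finrank F E)) (hr : 3 ≤ finrank F E) {s : E}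
    (hs : ∀ c : F, algebraMap F E c ≠ s) :
    ∃ a b c d : F, a * d - b * c ≠ 0 ∧
      (algebraMap F E c + d • s) * cj F q (algebraMap F E c + d • s) ∉ Submodule.span F
        {(algebraMap F E a + b • s) * cj F q (algebraMap F E a + b • s),
          (algebraMap F E a + b • s) * cj F q (algebraMap F E c + d • s),
          (algebraMap F E c + d • s) * cj F q (algebraMap F E a + b • s)} := by
  haveI := Subalgebra.isSimpleOrder_of_finrank_prime F E h5
  -- no quadratic relation over `F`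
  have hquad : ∀ α β γ : F,
      algebraMap F E α + β • s + γ • (s * s) = 0 → γ = 0 ∧ β = 0 ∧ α = 0 := by
    intro α β γ h
    have hγ : γ = 0 := by
      by_contra hγ
      let S : Subalgebra F E :=
        { carrier := {e | ∃ x y : F, e = algebraMap F E x + y • s}
          mul_mem' := by
            rintro _ _ ⟨x, y, rfl⟩ ⟨x', y', rfl⟩
            refine ⟨x * x' - y * y' * α / γ, x * y' + y * x' - y * y' * β / γ, ?_⟩
            have hγ' : algebraMap F E γ ≠ 0 := by simpa using hγ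
            simp only [Algebra.smul_def, map_sub, map_add, map_mul, map_div₀] at h ⊢
            field_simp
            linear_combination (algebraMap F E y * algebraMap F E y') * h
          add_mem' := by
            rintro _ _ ⟨x, y, rfl⟩ ⟨x', y', rfl⟩
            exact ⟨x + x', y + y', by simp [add_smul]; abel⟩
          algebraMap_mem' := fun c => ⟨c, 0, by simp⟩ }
      rcases IsSimpleOrder.eq_bot_or_eq_top S with hS | hS
      · obtain ⟨c, hc⟩ := Algebra.mem_bot.mp (hS ▸ (show s ∈ S from ⟨0, 1, by simp⟩) : s ∈ (⊥ : Subalgebra F E))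
        exact hs c hc
      · let L : F × F →ₗ[F] E :=
          { toFun := fun p => algebraMap F E p.1 + p.2 • s
            map_add' := fun p p' => by simp [add_smul]; abel
            map_smul' := fun c p => by simp [Algebra.smul_def, mul_add, mul_assoc] }
        have hL : Function.Surjective L := fun e => by
          obtain ⟨x, y, he⟩ := (show e ∈ S from hS ▸ Algebra.mem_top)
          exact ⟨(x, y), he.symm⟩
        have h1 := L.finrank_range_le
        rw [LinearMap.range_eq_top.mpr hL, finrank_top, Module.finrank_prod, finrank_self] at h1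
        omega
    subst hγ
    rw [zero_smul, add_zero] at h
    have hβ : β = 0 := by
      by_contra hβ
      refine hs (-α / β) ?_
      have hβ' : algebraMap F E β ≠ 0 := by simpa using hβ
      rw [Algebra.smul_def] at h
      rw [map_div₀, map_neg, div_eq_iff hβ']
      linear_combination -h
    subst hβ
    simpa using h
  by_cases hW : s * cj F q s ∈ Submodule.span F {(1 : E), s, cj F q s}
  swap
  · refine ⟨1, 0, 0, 1, by simp, fun hmem => hW ?_⟩
    simp only [map_one, map_zero, zero_smul, one_smul, add_zero, zero_add, D.cj_one, one_mul, mul_one] at hmem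
    exact Submodule.span_mono (by intro z; simp; tauto) hmem
  obtain ⟨c₀, e₁, e₂, hrel⟩ : ∃ c₀ e₁ e₂ : F, s * cj F q s = algebraMap F E c₀ + e₁ • s + e₂ • cj F q s := by
    obtain ⟨c₀, y, hy, hxy⟩ := Submodule.mem_span_insert.mp hW
    obtain ⟨e₁, e₂, rfl⟩ := Submodule.mem_span_pair.mp hy
    exact ⟨c₀, e₁, e₂, by rw [hxy, Algebra.algebraMap_eq_smul_one, add_assoc]⟩
  have hind : ∀ α β γ : F, algebraMap F E α + β • s + γ • cj F q s = 0 → α = 0 ∧ β = 0 ∧ γ = 0 := by
    intro α β γ h
    have h2 := hquad (γ * c₀ - e₂ * α) (α + γ * e₁ - e₂ * β) β (by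
      simp only [Algebra.smul_def, map_sub, map_add, map_mul] at h hrel ⊢
      linear_combination (s - algebraMap F E e₂) * h - algebraMap F E γ * hrel)
    obtain ⟨hβ, hα, -⟩ := h2
    subst hβ
    rw [zero_smul, add_zero] at h
    have hγ : γ = 0 := by
      by_contra hγ
      refine hs ((-α / γ) ^ q) ?_
      have hγ' : algebraMap F E γ ≠ 0 := by simpa using hγ
      rw [← D.cj_algebraMap, ← D.cj_cj s]
      congr 1
      rw [Algebra.smul_def] at h
      rw [map_div₀, map_neg, div_eq_iff hγ']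
      linear_combination -h
    subst hγ
    rw [zero_smul, add_zero] at h
    exact ⟨by simpa using h, rfl, rfl⟩
  have h3 := hind (c₀ ^ q - c₀) (e₂ ^ q - e₁) (e₁ ^ q - e₂) (by
    have h1 := congrArg (cj F q) hrel
    rw [D.cj_mul, D.cj_add, D.cj_add, D.cj_smul, D.cj_smul, D.cj_cj, D.cj_algebraMap, mul_comm, hrel] at h1
    simp only [Algebra.smul_def, map_sub] at h1 ⊢
    linear_combination -h1)
  obtain ⟨hc0, he12, -⟩ := h3
  rw [sub_eq_zero] at hc0 he12
  set t := s - algebraMap F E e₂ with ht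
  set d := c₀ + e₁ * e₂ with hd
  have hct : cj F q t = cj F q s - algebraMap F E e₁ := by rw [ht, D.cj_sub, D.cj_algebraMap, he12]
  have htt : t * cj F q t = algebraMap F E d := by
    rw [hct, ht, hd]
    simp only [Algebra.smul_def] at hrel
    simp only [map_add, map_mul]
    linear_combination hrel
  have ht0 : t ≠ 0 := fun e => hs e₂ (sub_eq_zero.mp e).symm
  have hd0 : d ≠ 0 := fun e => mul_ne_zero ht0 (D.cj_ne_zero ht0) (by rw [htt, e, map_zero])
  have hdq : d ^ q = d := (algebraMap F E).injective (by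
    rw [← D.cj_algebraMap, ← htt, D.cj_mul, D.cj_cj, mul_comm])
  obtain ⟨f, hf⟩ := exists_pow_succ_eq (E := F) q (by rw [Nat.card_eq_fintype_card, D.card]) (inv_ne_zero hd0)
    (by rw [inv_pow, hdq])
  have hf0 : f ≠ 0 := fun e => inv_ne_zero hd0 (by rw [← hf, e, zero_pow (Nat.succ_ne_zero _)])
  refine ⟨1 - f * e₂, f, 1, 0, by simpa using hf0, ?_⟩
  set p₀ := algebraMap F E (1 - f * e₂) + f • s with hp₀
  have hp : p₀ = 1 + algebraMap F E f * t := by
    rw [hp₀, ht, map_sub, map_one, map_mul, Algebra.smul_def]; ring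
  have hN : p₀ * cj F q p₀ = p₀ + cj F q p₀ := by
    rw [hp, D.cj_add, D.cj_mul, D.cj_one, D.cj_algebraMap]
    have h1 : algebraMap F E f * algebraMap F E (f ^ q) * algebraMap F E d = 1 := by
      rw [← map_mul, ← map_mul, ← pow_succ', hf, inv_mul_cancel₀ hd0, map_one]
    linear_combination h1 + algebraMap F E f * algebraMap F E (f ^ q) * htt
  simp only [map_one, zero_smul, add_zero, D.cj_one, one_mul, mul_one, hN]
  intro hmem
  have hle : Submodule.span F {p₀ + cj F q p₀, p₀, cj F q p₀} ≤ Submodule.span F ({p₀, cj F q p₀} : Set E) := by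
    refine Submodule.span_le.mpr ?_
    rintro z (rfl | rfl | rfl)
    · exact Submodule.add_mem _ (Submodule.subset_span (by simp)) (Submodule.subset_span (by simp))
    · exact Submodule.subset_span (by simp)
    · exact Submodule.subset_span (by simp)
  obtain ⟨α, β, hab⟩ := Submodule.mem_span_pair.mp (hle hmem)
  have hcp : cj F q p₀ = algebraMap F E ((1 - f * e₂) ^ q) + f ^ q • cj F q s := by
    rw [hp₀, D.cj_add, D.cj_algebraMap, D.cj_smul]
  obtain ⟨h1, h2, h3⟩ := hind (α * (1 - f * e₂) + β * (1 - f * e₂) ^ q - 1) (α * f) (β * f ^ q) (by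
    rw [hcp, hp₀] at hab
    simp only [Algebra.smul_def, map_sub, map_add, map_mul, map_one] at hab ⊢
    linear_combination hab)
  rw [(mul_eq_zero.mp h2).resolve_right hf0, (mul_eq_zero.mp h3).resolve_right (pow_ne_zero _ hf0)] at h1
  simp at h1

end Cfsg.Agent.Lib.SUExt
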