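import Cfsg.Agent.Lib.SUExt.Climb

/-!
From a hyperplane intersection to a root subgroup of an isotropic vector over `E`.
-/

set_option autoImplicit false
set_option linter.unusedSectionVars false
set_option linter.style.haveILetI false

namespace Cfsg.Agent.Lib.SUExt

open Module Matrix Cfsg.Agent.Lib

variable {F : Type*} [Field F] [Fintype F] {E : Type*} [Field E] [Algebra F E] [Finite E] {n q : ℕ}
  [Module E (Fin n → F)] [IsScalarTower F E (Fin n → F)]

local notation "Vs" => (Fin n → F)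
local notation "Ms" => Matrix (Fin n) (Fin n) F
local notation "hh" => Cfsg.hermForm n F q
local notation "tr" => Algebra.trace F E

variable {M : Subgroup (GL (Fin n) F)} (D : HData (F := F) (n := n) E q)
include D

/-- `x ↦ h (x, v) • u`. -/
noncomputable def rk1 (u v : Vs) : Vs →ₗ[F] Vs where
  toFun x := hh x v • u
  map_add' x y := by rw [Forms.herm_add_left D.card, add_smul]
  map_smul' c x := by rw [Forms.herm_smul_left D.card, RingHom.id_apply, smul_smul]

theorem rk1_apply (u v x : Vs) : rk1 D u v x = hh x v • u := rfl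

theorem eq_zero_or_one_of_skew (h2 : q = 2) {c : F} (hc : c + c ^ q = 0) : c = 0 ∨ c = 1 := by
  haveI : CharP F 2 := by
    refine CharTwo.of_one_ne_zero_of_two_eq_zero one_ne_zero ?_
    have h4 : ((Fintype.card F : ℕ) : F) = 0 := Nat.cast_card_eq_zero F
    rw [D.card, h2] at h4
    rw [Nat.cast_pow, Nat.cast_ofNat] at h4
    exact sq_eq_zero_iff.mp h4
  rw [CharTwo.add_eq_zero, h2, sq] at hc
  rcases eq_or_ne c 0 with h | h
  · exact Or.inl h
  · exact Or.inr (mul_left_cancel₀ h (by rw [mul_one]; exact hc.symm))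

/-- Skew elements of the small field are the multiples of one of them. -/
theorem skew_ratio {c c' : F} (hc : c + c ^ q = 0) (hc' : c' + c' ^ q = 0) (h0 : c ≠ 0) :
    (c' / c) ^ q = c' / c := by
  rw [div_pow, eq_neg_of_add_eq_zero_right hc, eq_neg_of_add_eq_zero_right hc', neg_div_neg_eq]

/-- From the radical elements to a root subgroup, when the small field has more than two elements. -/
theorem root_of_big (h2 : q ≠ 2) (hO : Over E q M) {c d : Vs} {σ : F} (hσ : σ + σ ^ q = 0) (hσ0 : σ ≠ 0)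
    (hcc : hh c c = 0) (hcd : hh c d = 0) (hdd : hh d d = 0)
    (hC : ∀ s t : F, s ^ q = s → t ^ q = t → t ≠ 0 →
      InM M ((s * t) • (rk1 D c d - rk1 D d c) + (s * (t * t) * σ) • rk1 D d d)) :
    d ∈ UnitaryMax.root q M := by
  have hdc : hh d c = 0 := UnitaryMax.h_symm D.card hcd
  obtain ⟨s, hs, hs0, hs1⟩ : ∃ s : F, s ^ q = s ∧ s ≠ 0 ∧ s ≠ 1 := by
    have hq := D.two_le
    classical
    obtain ⟨g, hg⟩ := IsCyclic.exists_generator (α := Fˣ)
    have hord : orderOf g = (q + 1) * (q - 1) := by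
      rw [orderOf_eq_card_of_forall_mem_zpowers hg, Nat.card_eq_fintype_card, Fintype.card_units, D.card,
        ← Nat.sq_sub_sq, one_pow]
    refine ⟨((g ^ (q + 1) : Fˣ) : F), ?_, Units.ne_zero _, fun e => ?_⟩
    · rw [← Units.val_pow_eq_pow_val, ← pow_mul]
      congr 1
      have h1 : (q + 1) * q = orderOf g + (q + 1) := by
        rw [hord, ← Nat.mul_succ, Nat.succ_eq_add_one, Nat.sub_add_cancel (by omega)]
      rw [h1, pow_add, pow_orderOf_eq_one, one_mul]
    · have h1 := Nat.le_of_dvd (by omega) (orderOf_dvd_of_pow_eq_one (Units.ext e : g ^ (q + 1) = 1))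
      have : (q + 1) * 2 ≤ (q + 1) * (q - 1) := Nat.mul_le_mul le_rfl (by omega)
      omega
  have hz : ∀ (a b a' b' : F) x, (a • (rk1 D c d - rk1 D d c) + b • rk1 D d d)
      ((a' • (rk1 D c d - rk1 D d c) + b' • rk1 D d d) x) = 0 := fun a b a' b' x => by
    simp only [LinearMap.add_apply, LinearMap.smul_apply, LinearMap.sub_apply, map_add, map_smul, map_sub,
      rk1_apply, Forms.herm_smul_left D.card, Forms.herm_add_left D.card, UnitaryMax.h_sub_left D.card, hcc, hcd,
      hdc, hdd, mul_zero, zero_smul, smul_zero, sub_self, add_zero]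
  have key : ∀ τ : F, τ ^ q = τ → InM M (((s * τ) * (1 - s) * σ) • rk1 D d d) := by
    intro τ hτ
    have h1 := hC (τ * s) 1 (by rw [mul_pow, hτ, hs]) (one_pow _) one_ne_zero
    have h3 := hC τ s hτ hs hs0
    have h := h1.add (h3.neg (hz _ _ _ _)) fun x => by rw [LinearMap.neg_apply, map_neg, hz, neg_zero]
    convert h using 1
    module
  have hnz : s * (1 - s) * σ ≠ 0 := mul_ne_zero (mul_ne_zero hs0 (sub_ne_zero.mpr (Ne.symm hs1))) hσ0
  have hskew : s * (1 - s) * σ + (s * (1 - s) * σ) ^ q = 0 := by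
    rw [mul_pow, mul_pow, UnitaryMax.q_sub D.card, one_pow, hs]
    linear_combination (s * (1 - s)) * hσ
  refine ⟨hdd, fun c' hc' => ?_⟩
  obtain ⟨g, hg, hgx⟩ := key (c' / (s * (1 - s) * σ)) (skew_ratio D hskew hc' hnz)
  suffices e : UnitaryMax.T d c' hdd = g by rw [e]; exact hg
  refine FormMax.gl_ext fun x => ?_
  rw [UnitaryMax.T_mulVec, hgx, LinearMap.smul_apply, rk1_apply, smul_smul,
    show s * (c' / (s * (1 - s) * σ)) * (1 - s) * σ = c' / (s * (1 - s) * σ) * (s * (1 - s) * σ) by ring,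
    div_mul_cancel₀ _ hnz]

/-- The field of two elements: polarising, moving, and summing along a self-conjugate basis. -/
theorem root_of_two (h2 : q = 2) (hodd : Odd (finrank F E)) (hr3 : 3 ≤ finrank F E) (hO : Over E q M)
    {u1 c : Vs} (hu0 : u1 ≠ 0) (hu : D.BE u1 u1 = 0) (hcc : hh c c = 0) {N : E}
    (hC : ∀ a ∈ D.skew, tr (a * N) = 0 → a ≠ 0 → hh c (a • u1) = 0 ∧
      InM M (rk1 D c (a • u1) - rk1 D (a • u1) c + rk1 D (a • u1) (a • u1)))
    (hN : cj F q N = N) : ∃ δ, δ ≠ 0 ∧ D.BE δ δ = 0 ∧ δ ∈ UnitaryMax.root q M := by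
  classical
  haveI hF2 : CharP F 2 := by
    refine CharTwo.of_one_ne_zero_of_two_eq_zero one_ne_zero ?_
    have h4 : ((Fintype.card F : ℕ) : F) = 0 := Nat.cast_card_eq_zero F
    rw [D.card, h2] at h4
    rw [Nat.cast_pow, Nat.cast_ofNat] at h4
    exact sq_eq_zero_iff.mp h4
  haveI hE2 : CharP E 2 := charP_of_injective_algebraMap (algebraMap F E).injective 2
  have hfix : ∀ a : E, a ∈ D.skew ↔ cj F q a = a := fun a => by rw [D.mem_skew, CharTwo.neg_eq]
  have hnegV : ∀ A : Vs →ₗ[F] Vs, A + A = 0 := fun A => by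
    rw [← two_smul F A, CharTwo.two_eq_zero, zero_smul]
  have hnegV' : ∀ A : Vs →ₗ[F] Vs, -A = A := fun A => (eq_neg_of_add_eq_zero_left (hnegV A)).symm
  have hBu : ∀ e e' : E, hh (e • u1) (e' • u1) = 0 := fun e e' => by
    rw [D.h_eq, D.BE_smul_left, D.BE_smul_right, hu, mul_zero, mul_zero, map_zero]
  -- the symmetric products
  let cr : E → E → (Vs →ₗ[F] Vs) := fun a b => rk1 D (a • u1) (b • u1) + rk1 D (b • u1) (a • u1)
  have hcr0 : ∀ b, cr 0 b = 0 := fun b => by
    ext x
    simp [cr, rk1_apply, UnitaryMax.h_zero_right D.card]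
  have hker : ∀ a ∈ D.skew, ∀ b ∈ D.skew, tr (a * N) = 0 → tr (b * N) = 0 → InM M (cr a b) := by
    intro a ha b hb hat hbt
    by_cases ha0 : a = 0
    · rw [ha0, hcr0]; exact inM_zero
    by_cases hb0 : b = 0
    · rw [hb0, show cr a 0 = cr 0 a from add_comm _ _, hcr0]; exact inM_zero
    by_cases hab : a + b = 0
    · rw [show b = a from (CharTwo.add_eq_zero.mp hab).symm,
        show cr a a = rk1 D (a • u1) (a • u1) + rk1 D (a • u1) (a • u1) from rfl, hnegV]
      exact inM_zero
    obtain ⟨o1, m1⟩ := hC a ha hat ha0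
    obtain ⟨o2, m2⟩ := hC b hb hbt hb0
    obtain ⟨o3, m3⟩ := hC (a + b) (add_mem ha hb) (by rw [add_mul, map_add, hat, hbt, add_zero]) hab
    have hz : ∀ d d' : E, hh c (d • u1) = 0 → hh c (d' • u1) = 0 → ∀ x,
        (rk1 D c (d • u1) - rk1 D (d • u1) c + rk1 D (d • u1) (d • u1))
          ((rk1 D c (d' • u1) - rk1 D (d' • u1) c + rk1 D (d' • u1) (d' • u1)) x) = 0 := fun d d' o o' x => by
      simp only [LinearMap.add_apply, LinearMap.sub_apply, map_add, map_sub, map_smul, rk1_apply, hcc, o, o',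
        UnitaryMax.h_symm D.card o, UnitaryMax.h_symm D.card o', hBu, zero_smul, smul_zero, sub_self, add_zero]
    have h := (m1.add m2 (hz a b o1 o2)).add m3 fun x => by
      rw [LinearMap.add_apply, hz a (a + b) o1 o3, hz b (a + b) o2 o3, add_zero]
    convert h using 1
    refine LinearMap.ext fun x => ?_
    simp only [cr, LinearMap.add_apply, LinearMap.sub_apply, rk1_apply, add_smul, Forms.herm_add_right D.card,
      smul_add]
    have e : ∀ y : Vs, y + y = 0 := fun y => by rw [← two_smul F y, CharTwo.two_eq_zero, zero_smul]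
    have e' : ∀ y : Vs, -y = y := fun y => (eq_neg_of_add_eq_zero_left (e y)).symm
    simp only [sub_eq_add_neg, neg_add_rev, e']
    set P1 := hh x (a • u1) • c
    set P2 := hh x (b • u1) • c
    set Q1 := hh x c • (a • u1)
    set Q2 := hh x c • (b • u1)
    set R11 := hh x (a • u1) • (a • u1)
    set R22 := hh x (b • u1) • (b • u1)
    set R12 := hh x (a • u1) • (b • u1)
    set R21 := hh x (b • u1) • (a • u1)
    calc R21 + R12 = (P1 + P1) + (P2 + P2) + (Q1 + Q1) + (Q2 + Q2) + (R11 + R11) + (R22 + R22) + (R21 + R12) := by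
          simp [e]
      _ = _ := by abel
  have hpairs : ∀ t ∈ D.skew, ∀ t' ∈ D.skew, InM M (cr t t') := by
    intro t ht t' ht'
    have ht'' := (hfix t).mp ht
    have ht''' := (hfix t').mp ht'
    haveI := Fintype.ofFinite D.skew
    let L : D.skew → F × F := fun k => (tr ((k : E) * t * N), tr ((k : E) * t' * N))
    obtain ⟨k, k', hkk, hL⟩ : ∃ k k', k ≠ k' ∧ L k = L k' := by
      by_contra hno
      push Not at hno
      have hinj : Function.Injective L := fun k k' e => by
        by_contra hne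
        exact hno k k' hne e
      have himg : ∀ k, L k ∈ ({0, 1} ×ˢ {0, 1} : Finset (F × F)) := fun k => by
        have hs : ∀ w : E, cj F q w = w → tr ((k : E) * w * N) = 0 ∨ tr ((k : E) * w * N) = 1 := fun w hw => by
          refine eq_zero_or_one_of_skew D h2 ?_
          rw [← D.trace_cj, D.cj_mul, D.cj_mul, hw, hN, (hfix _).mp k.2, CharTwo.add_self_eq_zero]
        simp only [Finset.mem_product, Finset.mem_insert, Finset.mem_singleton]
        exact ⟨hs t ht'', hs t' ht'''⟩
      have h1 := Finset.card_le_card_of_injOn L (s := Finset.univ) (fun k _ => himg k) hinj.injOn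
      rw [Finset.card_univ, ← Nat.card_eq_fintype_card, D.card_skew, h2, Finset.card_product] at h1
      have h3 : 2 ^ 3 ≤ 2 ^ finrank F E := Nat.pow_le_pow_right (by omega) hr3
      have h4 : ({0, 1} : Finset F).card = 2 := Finset.card_pair zero_ne_one
      rw [h4] at h1
      omega
    set j : E := (k : E) - k' with hj
    have hjs : j ∈ D.skew := sub_mem k.2 k'.2
    have hj0 : j ≠ 0 := fun e => hkk (Subtype.ext (sub_eq_zero.mp e))
    have hL1 : tr (j * t * N) = 0 := by
      have := congrArg Prod.fst hL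
      rw [hj, sub_mul, sub_mul, map_sub, show tr ((k : E) * t * N) = tr ((k' : E) * t * N) from this, sub_self]
    have hL2 : tr (j * t' * N) = 0 := by
      have := congrArg Prod.snd hL
      rw [hj, sub_mul, sub_mul, map_sub, show tr ((k : E) * t' * N) = tr ((k' : E) * t' * N) from this, sub_self]
    have hjinv : cj F q j⁻¹ = j⁻¹ := by rw [D.cj_inv, (hfix j).mp hjs]
    obtain ⟨g, hg, hgu, hgl⟩ := exists_scale D hO hu0 hu hjinv (inv_ne_zero hj0)
    refine (hker _ (D.skew_mul_fixed hjs ht'') _ (D.skew_mul_fixed hjs ht''') hL1 hL2).conj hg fun x => ?_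
    simp only [cr, LinearMap.add_apply, rk1_apply, mulVec_add, mulVec_smul, hgl, hgu, smul_smul]
    have e : ∀ w : E, hh ((g : Ms) *ᵥ x) (w • u1) = hh x ((j * w) • u1) := fun w => by
      conv_rhs => rw [← UnitaryMax.apply_K (hO.le hg) x ((j * w) • u1), hgl, hgu, smul_smul,
        mul_right_comm, mul_inv_cancel₀ hj0, one_mul]
    simp only [e, mul_right_comm j _ j⁻¹, mul_inv_cancel₀ hj0, one_mul]
  -- a self-conjugate basis and its dual
  obtain ⟨ι, _, b, hb⟩ : ∃ (ι : Type) (_ : Fintype ι) (b : Basis ι F E), ∀ i, cj F q (b i) = b i := by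
    have hsp : ⊤ ≤ Submodule.span F {a : E | cj F q a = a} := fun e _ =>
      D.top_of_skew _ (fun a ha => Submodule.subset_span ((hfix a).mp ha)) e
    let b0 := Basis.ofSpan hsp
    haveI := FiniteDimensional.fintypeBasisIndex b0
    refine ⟨Fin (finrank F E), inferInstance, b0.reindex (Fintype.equivFinOfCardEq (finrank_eq_card_basis b0).symm),
      fun i => ?_⟩
    rw [Basis.reindex_apply]
    exact Basis.ofSpan_subset hsp ⟨_, rfl⟩
  have hnd := traceForm_nondegenerate F E
  let b' := LinearMap.BilinForm.dualBasis (Algebra.traceForm F E) hnd b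
  have hdual : ∀ i j, tr (b' i * b j) = if j = i then 1 else 0 := fun i j => by
    rw [← Algebra.traceForm_apply, LinearMap.BilinForm.apply_dualBasis_left]
  have hexp : ∀ x : E, x = ∑ i, tr (b i * x) • b' i := fun x => by
    conv_lhs => rw [← b'.sum_repr x]
    refine Finset.sum_congr rfl fun i _ => ?_
    rw [LinearMap.BilinForm.dualBasis_repr_apply, Algebra.traceForm_apply, mul_comm]
  have hexp' : ∀ x : E, x = ∑ j, tr (b' j * x) • b j := fun x => by
    refine (b.sum_repr x).symm.trans (Finset.sum_congr rfl fun j _ => ?_)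
    congr 1
    conv_rhs => rw [← b.sum_repr x]
    rw [Finset.mul_sum, map_sum, Finset.sum_eq_single j]
    · rw [mul_smul_comm, map_smul, hdual]; simp
    · intro i _ hij
      rw [mul_smul_comm, map_smul, hdual, if_neg hij, smul_zero]
    · simp
  have hb' : ∀ i, cj F q (b' i) = b' i := fun i => by
    rw [hexp (cj F q (b' i))]
    conv_rhs => rw [hexp (b' i)]
    refine Finset.sum_congr rfl fun j _ => ?_
    congr 1
    rw [show b j * cj F q (b' i) = cj F q (b' i * b j) by rw [D.cj_mul, hb, mul_comm], D.trace_cj,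
      mul_comm (b j), hdual]
    split_ifs <;> simp [h2]
  let Mc : ι → ι → F := fun i j => tr (b' i * b' j)
  have hM01 : ∀ i j, Mc i j = 0 ∨ Mc i j = 1 := fun i j => eq_zero_or_one_of_skew D h2 (by
    rw [← D.trace_cj, D.cj_mul, hb', hb', CharTwo.add_self_eq_zero])
  let d : ι → Vs := fun i => b i • u1
  have htp : D.tp u1 1 = ∑ i, ∑ j, Mc i j • rk1 D (d j) (d i) := by
    refine LinearMap.ext fun x => ?_
    simp only [LinearMap.sum_apply, LinearMap.smul_apply, rk1_apply, D.tp_apply, one_mul]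
    conv_lhs => rw [hexp (D.BE x u1)]
    rw [Finset.sum_smul]
    refine Finset.sum_congr rfl fun i _ => ?_
    rw [smul_assoc, hexp' (b' i), Finset.sum_smul, Finset.smul_sum]
    refine Finset.sum_congr rfl fun j _ => ?_
    rw [smul_assoc, smul_comm, show b' j * b' i = b' i * b' j from mul_comm _ _, D.trace_BE]
    congr 2
    show hh (b i • x) u1 = hh x (d i)
    rw [D.adj]
    congr 2
    exact hb i
  set S : Set (Vs →ₗ[F] Vs) :=
    {G | InM M G ∧ (∀ x, ∃ e : E, G x = e • u1) ∧ ∀ e : E, G (e • u1) = 0} with hS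
  have hzS : ∀ G ∈ S, ∀ G' ∈ S, ∀ x, G (G' x) = 0 := fun G hG G' hG' x => by
    obtain ⟨e, he⟩ := hG'.2.1 x
    rw [he, hG.2.2]
  have hSadd : ∀ G ∈ S, ∀ G' ∈ S, G + G' ∈ S := fun G hG G' hG' =>
    ⟨hG.1.add hG'.1 (hzS G hG G' hG'), fun x => by
      obtain ⟨e, he⟩ := hG.2.1 x
      obtain ⟨e', he'⟩ := hG'.2.1 x
      exact ⟨e + e', by rw [LinearMap.add_apply, he, he', add_smul]⟩,
      fun e => by rw [LinearMap.add_apply, hG.2.2, hG'.2.2, add_zero]⟩
  have hS0 : (0 : Vs →ₗ[F] Vs) ∈ S := ⟨inM_zero, fun x => ⟨0, by simp⟩, fun e => by simp⟩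
  have hScr : ∀ i j, rk1 D (d i) (d j) + rk1 D (d j) (d i) ∈ S := fun i j =>
    ⟨hpairs (b i) ((hfix _).mpr (hb i)) (b j) ((hfix _).mpr (hb j)),
      fun x => ⟨hh x (d j) • b i + hh x (d i) • b j, by simp [rk1_apply, d, add_smul]⟩,
      fun e => by simp [rk1_apply, d, hBu]⟩
  have hsm : ∀ {t : F}, t = 0 ∨ t = 1 → t ^ q = t := fun {t} h => by
    rcases h with rfl | rfl
    · exact zero_pow (by omega)
    · exact one_pow _
  have hind : ∀ s : Finset ι,
      (∑ i ∈ s, ∑ j ∈ s, Mc i j • rk1 D (d j) (d i)) + rk1 D (∑ i ∈ s, Mc i i • d i) (∑ i ∈ s, Mc i i • d i) ∈ S := by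
    intro s
    induction s using Finset.induction_on with
    | empty =>
      simp only [Finset.sum_empty, zero_add]
      rwa [show rk1 D (0 : Vs) 0 = 0 by ext x; simp [rk1_apply]]
    | @insert k s hk ih =>
      set δ := ∑ i ∈ s, Mc i i • d i with hδ
      have hkk : Mc k k * Mc k k = Mc k k := by rcases hM01 k k with h | h <;> simp [h]
      have hsum : ∀ a : ι → F, (∀ j, a j = 0 ∨ a j = 1) →
          (∑ j ∈ s, a j • (rk1 D (d k) (d j) + rk1 D (d j) (d k))) ∈ S := fun a ha =>
        Finset.sum_induction _ (· ∈ S) (fun G G' hG hG' => hSadd G hG G' hG') hS0 fun j _ => by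
          rcases ha j with h | h <;> rw [h]
          · rw [zero_smul]; exact hS0
          · rw [one_smul]; exact hScr _ _
      have e : (∑ i ∈ insert k s, ∑ j ∈ insert k s, Mc i j • rk1 D (d j) (d i))
            + rk1 D (∑ i ∈ insert k s, Mc i i • d i) (∑ i ∈ insert k s, Mc i i • d i)
          = ((∑ i ∈ s, ∑ j ∈ s, Mc i j • rk1 D (d j) (d i)) + rk1 D δ δ)
            + ((∑ j ∈ s, Mc k j • (rk1 D (d k) (d j) + rk1 D (d j) (d k)))
              + ∑ j ∈ s, (Mc k k * Mc j j) • (rk1 D (d k) (d j) + rk1 D (d j) (d k))) := by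
        have hadd : ∀ u u' v : Vs, rk1 D (u + u') v = rk1 D u v + rk1 D u' v := fun u u' v =>
          LinearMap.ext fun x => by simp [rk1_apply, smul_add]
        have hadd' : ∀ u v v' : Vs, rk1 D u (v + v') = rk1 D u v + rk1 D u v' := fun u v v' =>
          LinearMap.ext fun x => by simp [rk1_apply, Forms.herm_add_right D.card, add_smul]
        have hsml : ∀ (t t' : F), t' ^ q = t' → ∀ u v : Vs, rk1 D (t • u) (t' • v) = (t * t') • rk1 D u v :=
          fun t t' ht u v => LinearMap.ext fun x => by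
            simp only [rk1_apply, LinearMap.smul_apply, Forms.herm_smul_right D.card, ht, smul_smul]
            congr 1; ring
        set t := Mc k k with ht
        have hcr : rk1 D (t • d k) δ + rk1 D δ (t • d k)
            = ∑ j ∈ s, (t * Mc j j) • (rk1 D (d k) (d j) + rk1 D (d j) (d k)) := by
          rw [hδ, show rk1 D (t • d k) (∑ j ∈ s, Mc j j • d j) + rk1 D (∑ j ∈ s, Mc j j • d j) (t • d k)
            = ∑ j ∈ s, (rk1 D (t • d k) (Mc j j • d j) + rk1 D (Mc j j • d j) (t • d k)) from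
              map_sum (AddMonoidHom.mk' (fun z => rk1 D (t • d k) z + rk1 D z (t • d k)) fun z z' => by
                simp only [hadd, hadd']; abel) _ _]
          refine Finset.sum_congr rfl fun j _ => ?_
          rw [hsml _ _ (hsm (hM01 j j)), hsml _ _ (hsm (hM01 k k)), smul_add, mul_comm (Mc j j)]
        have hMsymm : ∀ j, Mc j k = Mc k j := fun j => by simp only [Mc, mul_comm]
        rw [Finset.sum_insert hk, Finset.sum_insert hk, Finset.sum_insert hk, ← ht, ← hδ, hadd, hadd', hadd',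
          hsml _ _ (hsm (hM01 k k)), ← ht, hkk, ← hcr]
        simp only [Finset.sum_insert hk, smul_add, Finset.sum_add_distrib, hMsymm]
        calc _ = (t • rk1 D (d k) (d k) + t • rk1 D (d k) (d k))
              + ((∑ i ∈ s, ∑ j ∈ s, Mc i j • rk1 D (d j) (d i)) + rk1 D δ δ
              + (∑ j ∈ s, Mc k j • rk1 D (d k) (d j) + ∑ j ∈ s, Mc k j • rk1 D (d j) (d k)
                + (rk1 D (t • d k) δ + rk1 D δ (t • d k)))) := by abel
          _ = _ := by rw [hnegV, zero_add]
      rw [e]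
      exact hSadd _ ih _ (hSadd _ (hsum _ fun j => hM01 k j) _ (hsum _ fun j => by
        rcases hM01 k k with h | h <;> rcases hM01 j j with h' | h' <;> simp [h, h']))
  set δ := ∑ i, Mc i i • d i with hδ
  refine ⟨δ, fun e => ?_, ?_, ?_⟩
  · have he0 : ∑ i, Mc i i • b i = 0 := by
      have h : (∑ i, Mc i i • b i) • u1 = 0 := by
        rw [Finset.sum_smul, ← e]
        exact Finset.sum_congr rfl fun i _ => smul_assoc _ _ _
      exact (smul_eq_zero.mp h).resolve_right hu0
    have hii : ∀ i, tr (b' i * b' i) = 0 := fun i =>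
      Fintype.linearIndependent_iff.mp b.linearIndependent _ he0 i
    have h1 : tr (1 : E) = 1 := by
      rw [← map_one (algebraMap F E), Algebra.trace_algebraMap, nsmul_one]
      obtain ⟨j, hj⟩ := hodd
      rw [hj, Nat.cast_add, Nat.cast_mul, Nat.cast_one, Nat.cast_ofNat, CharTwo.two_eq_zero, zero_mul, zero_add]
    refine zero_ne_one (α := F) (Eq.trans ?_ h1)
    conv_rhs => rw [show (1 : E) = 1 ^ 2 from (one_pow 2).symm, hexp 1]
    rw [CharTwo.sum_sq, map_sum]
    refine (Finset.sum_eq_zero fun i _ => ?_).symm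
    rw [smul_pow, map_smul, pow_two (b' i), hii, smul_zero]
  · rw [show δ = (∑ i, Mc i i • b i) • u1 by
      rw [Finset.sum_smul, hδ]; exact Finset.sum_congr rfl fun i _ => (smul_assoc _ _ _).symm,
      D.BE_smul_left, D.BE_smul_right, hu, mul_zero, mul_zero]
  have hU := hind Finset.univ
  rw [← htp, ← hδ] at hU
  have hone : (1 : E) ∈ D.skew := (hfix 1).mpr D.cj_one
  have hDS : D.tp u1 1 ∈ S := ⟨hO.tp_mem D u1 hone hu, fun x => ⟨_, rfl⟩, fun e => by
    rw [D.tp_apply, D.BE_smul_left, hu, mul_zero, mul_zero, zero_smul]⟩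
  have h := (hSadd _ hDS _ hU)
  rw [← add_assoc, hnegV, zero_add] at h
  obtain ⟨g, hg, hgx⟩ := h.1
  have hδδ : hh δ δ = 0 := by
    rw [show δ = (∑ i, Mc i i • b i) • u1 by
      rw [Finset.sum_smul, hδ]; exact Finset.sum_congr rfl fun i _ => (smul_assoc _ _ _).symm]
    exact hBu _ _
  refine ⟨hδδ, fun c' hc' => ?_⟩
  rcases eq_zero_or_one_of_skew D h2 hc' with rfl | rfl
  · rw [show UnitaryMax.T δ 0 hδδ = 1 from FormMax.gl_ext fun x => by simp [UnitaryMax.T_mulVec]]
    exact one_mem M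
  · rw [show UnitaryMax.T δ 1 hδδ = g from FormMax.gl_ext fun x => by
      rw [UnitaryMax.T_mulVec, hgx, rk1_apply, one_mul]]
    exact hg

/-- A root subgroup of an isotropic vector. -/
theorem exists_root (hd3 : finrank E Vs ≠ 3) (hr3 : 3 ≤ finrank F E) (hO : Over E q M)
    (hM : Meet D M (finrank F E - 1)) : ∃ δ, δ ≠ 0 ∧ D.BE δ δ = 0 ∧ δ ∈ UnitaryMax.root q M := by
  obtain ⟨g, hg, v, w, hv, hw, hvv, hww, hne, hX⟩ := hM
  set L := img E g v with hL
  set X := L ⊓ ln E w with hXdef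
  have hlt := finrank_meet_lt hv hw hne
  obtain ⟨y, hy, hyX⟩ := SetLike.exists_of_lt (lt_of_le_of_ne (inf_le_left : X ≤ L) fun e => by
    rw [e, hL, finrank_img g hv] at hlt
    omega)
  have hyw : ∀ e : E, y ≠ e • w := fun e he => hyX ⟨hy, e, he.symm⟩
  have hsup : X ⊔ Submodule.span F {y} = L := by
    refine Submodule.eq_of_le_of_finrank_le (sup_le inf_le_left (by simpa using hy)) ?_
    have hlt' : X < X ⊔ Submodule.span F {y} := lt_of_le_of_ne le_sup_left fun e =>
      hyX (show y ∈ X by rw [e]; exact Submodule.mem_sup_right (Submodule.mem_span_singleton_self y))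
    have h := Submodule.finrank_lt_finrank_of_lt hlt'
    rw [hL, finrank_img g hv]
    omega
  have hLiso : ∀ x ∈ L, ∀ z ∈ L, hh x z = 0 := fun x hx z hz => isotropic_img D hO hg hvv hx hz
  obtain ⟨x1, hx1X, hx1y⟩ : ∃ x1, (∀ x ∈ X, hh x x1 = 0) ∧ hh y x1 = 1 := by
    obtain ⟨φ, hφ, hφX⟩ := Submodule.exists_dual_map_eq_bot_of_notMem hyX inferInstance
    obtain ⟨u, hu⟩ := (Forms.hermSesq_goodForm (n := n) D.card).exists_vec φ
    have key : ∀ x, hh x u = φ x := fun x => by rw [← Forms.hermSesq_apply D.card]; exact hu x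
    refine ⟨((φ y)⁻¹ ^ q) • u, fun x hx => ?_, ?_⟩
    · have h : φ x ∈ X.map φ := ⟨x, hx, rfl⟩
      rw [hφX, Submodule.mem_bot] at h
      rw [Forms.herm_smul_right D.card, key, h, mul_zero]
    · rw [Forms.herm_smul_right D.card, key, Forms.pow_q_pow_q D.card, inv_mul_cancel₀ hφ]
  set g' := ((g⁻¹ : GL (Fin n) F) : Ms) with hg'
  set b := D.BE (g' *ᵥ x1) v with hb
  have hb0 : b ≠ 0 := fun e => by
    obtain ⟨f, hf⟩ := mem_img.mp hy
    refine one_ne_zero (α := F) ?_
    rw [← hx1y, ← hf, ← UnitaryMax.mulVec_inv_mulVec g x1, UnitaryMax.apply_K (hO.le hg), D.h_eq, D.BE_smul_left,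
      D.BE_conj (g' *ᵥ x1) v, ← hb, e, D.cj_zero, mul_zero, map_zero]
  obtain ⟨a₀, ha₀, ha₀N⟩ : ∃ a ∈ D.skew, tr (a * (b * cj F q b)) ≠ 0 := by
    by_contra hno
    push Not at hno
    obtain ⟨t, ht⟩ := Algebra.trace_surjective F E 1
    have h := D.top_of_skew (LinearMap.ker ((Algebra.trace F E).comp (LinearMap.mulRight F (b * cj F q b)))) hno
      (t / (b * cj F q b))
    simp only [LinearMap.mem_ker, LinearMap.comp_apply, LinearMap.mulRight_apply,
      div_mul_cancel₀ _ (mul_ne_zero hb0 (D.cj_ne_zero hb0))] at h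
    exact one_ne_zero (ht ▸ h)
  set A₀ : Vs →ₗ[F] Vs := Matrix.mulVecLin (g : Ms) ∘ₗ D.tp v a₀ ∘ₗ Matrix.mulVecLin g' with hA₀
  have hA₀x : ∀ x, A₀ x = (g : Ms) *ᵥ ((a₀ * D.BE (g' *ᵥ x) v) • v) := fun x => rfl
  have hA₀img : ∀ x, A₀ x ∈ L := fun x => mem_img.mpr ⟨_, (hA₀x x).symm⟩
  have hA₀skew : ∀ x z, hh (A₀ x) z = -hh x (A₀ z) := fun x z => by
    conv_lhs => rw [← UnitaryMax.mulVec_inv_mulVec g z]
    conv_rhs => rw [← UnitaryMax.mulVec_inv_mulVec g x]
    simp only [hA₀, LinearMap.comp_apply, Matrix.mulVecLin_apply, UnitaryMax.apply_K (hO.le hg), D.tp_skew ha₀,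
      hg', UnitaryMax.inv_mulVec_mulVec]
  have hA₀sq : ∀ x, A₀ (A₀ x) = 0 := fun x => by
    rw [hA₀x, hA₀x, hg', UnitaryMax.inv_mulVec_mulVec, D.BE_smul_left, hvv, mul_zero, mul_zero, zero_smul, mulVec_zero]
  have hA₀mem : ∀ s : F, s ^ q = s → InM M (s • A₀) := fun s hs => by
    have hsa : s • a₀ ∈ D.skew := by rw [D.mem_skew, D.cj_smul, hs, D.mem_skew.mp ha₀, smul_neg]
    refine (hO.tp_mem D v hsa hvv).conj hg fun x => ?_
    rw [LinearMap.smul_apply, hA₀x, hg', UnitaryMax.inv_mulVec_mulVec, D.tp_apply, smul_mul_assoc, smul_assoc,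
      mulVec_smul]
  set c := A₀ x1 with hc
  set σ := hh c x1 with hσ
  have hσ0 : σ ≠ 0 := by
    rw [hσ, hc, hA₀x, ← UnitaryMax.mulVec_inv_mulVec g x1, UnitaryMax.apply_K (hO.le hg),
      UnitaryMax.mulVec_inv_mulVec, D.h_eq, D.BE_smul_left, D.BE_conj (g' *ᵥ x1) v, ← hb, mul_assoc]
    exact ha₀N
  have hσs : σ + σ ^ q = 0 := by rw [hσ, D.hconj, hc, hA₀skew x1 x1, neg_add_cancel]
  have hdec : ∀ z ∈ L, ∃ e : E, z = e • w + hh z x1 • y := fun z hz => by
    rw [← hsup] at hz
    obtain ⟨ξ, hξ, η, hη, rfl⟩ := Submodule.mem_sup.mp hz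
    obtain ⟨θ, rfl⟩ := Submodule.mem_span_singleton.mp hη
    obtain ⟨e, he⟩ := hξ.2
    refine ⟨e, ?_⟩
    rw [Forms.herm_add_left D.card, Forms.herm_smul_left D.card, hx1X ξ hξ, hx1y]
    simp only [LinearMap.restrictScalars_apply, LinearMap.toSpanSingleton_apply] at he
    simp [he]
  have himg : ∀ x, ∃ e : E, A₀ x = e • w - hh x c • y := fun x => by
    obtain ⟨e, he⟩ := hdec _ (hA₀img x)
    exact ⟨e, by rw [he, hA₀skew x x1, ← hc, neg_smul, sub_eq_add_neg]⟩
  have hkill : ∀ z, (∀ u ∈ L, hh u z = 0) → A₀ z = 0 := fun z hz => by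
    have h1 : D.BE (g' *ᵥ z) v = 0 := by
      refine D.BE_symm (D.BE_unique fun e => ?_)
      rw [mul_zero, map_zero, ← UnitaryMax.apply_K (hO.le hg), hg', UnitaryMax.mulVec_inv_mulVec,
        hz _ (mem_img.mpr ⟨e, rfl⟩)]
    rw [hA₀x, h1, mul_zero, zero_smul, mulVec_zero]
  have hperp : ∀ z, (∀ u ∈ X, hh u z = 0) → A₀ z = hh z y • c := fun z hz => by
    have h := hkill (z - hh z y • x1) fun u hu => by
      rw [← hsup] at hu
      obtain ⟨ξ, hξ, η, hη, rfl⟩ := Submodule.mem_sup.mp hu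
      obtain ⟨θ, rfl⟩ := Submodule.mem_span_singleton.mp hη
      rw [UnitaryMax.h_sub_right D.card, Forms.herm_smul_right D.card, D.hconj, Forms.herm_add_left D.card,
        Forms.herm_add_left D.card, Forms.herm_smul_left D.card, Forms.herm_smul_left D.card, hz ξ hξ, hx1X ξ hξ,
        hx1y]
      ring
    rw [map_sub, map_smul, sub_eq_zero] at h
    exact h
  obtain ⟨u, huu, huw, hyu⟩ : ∃ u, D.BE u u = 0 ∧ D.BE u w = 0 ∧ D.BE y u ≠ 0 := by
    by_cases h : D.BE y w = 0
    · exact D.exists_isotropic_perp hd3 hw hww h hyw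
    · exact ⟨w, hww, hww, h⟩
  set p := D.BE y u with hp
  set u1 := p • u with hu1
  have hu1u : D.BE u1 u1 = 0 := by rw [hu1, D.BE_smul_left, D.BE_smul_right, huu, mul_zero, mul_zero]
  have hu0 : u ≠ 0 := fun e => hyu (by rw [hp, e, D.BE_zero_right])
  have hu10 : u1 ≠ 0 := smul_ne_zero hyu hu0
  have hN : cj F q (p * cj F q p) = p * cj F q p := by rw [D.cj_mul, D.cj_cj, mul_comm]
  -- the radical elements
  have hrad : ∀ a ∈ D.skew, tr (a * (p * cj F q p)) = 0 →
      hh c (a • u1) = 0 ∧ ∀ s : F, s ^ q = s →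
        InM M (s • (rk1 D c (a • u1) - rk1 D (a • u1) c) + (s * σ) • rk1 D (a • u1) (a • u1)) := by
    intro a ha hat
    set Dm := D.tp u a with hDm
    set d := a • u1 with hd
    have hyd : hh y d = 0 := by
      rw [D.h_eq, hd, hu1, D.BE_smul_right, D.BE_smul_right, ← hp, D.mem_skew.mp ha, neg_mul, map_neg,
        mul_comm (cj F q p) p, hat, neg_zero]
    have hDw : ∀ e : E, Dm (e • w) = 0 := fun e => by
      rw [hDm, D.tp_apply, D.BE_smul_left, D.BE_symm huw, mul_zero, mul_zero, zero_smul]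
    have hDy : Dm y = d := by rw [hDm, D.tp_apply, hd, hu1, smul_smul, hp]
    have hwd : ∀ e : E, hh (e • w) d = 0 := fun e => by
      rw [D.h_eq, hd, hu1, D.BE_smul_left, D.BE_smul_right, D.BE_smul_right, D.BE_symm huw, mul_zero, mul_zero,
        mul_zero, map_zero]
    have hDA : ∀ x, Dm (A₀ x) = -(hh x c) • d := fun x => by
      obtain ⟨e, he⟩ := himg x
      rw [he, map_sub, hDw, map_smul, hDy, zero_sub, neg_smul]
    obtain ⟨ec, hec⟩ := hdec c (hA₀img x1)
    have hcd : hh c d = 0 := by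
      rw [hec, Forms.herm_add_left D.card, Forms.herm_smul_left D.card, hwd, hyd, mul_zero, add_zero]
    have hDc : Dm c = σ • d := by rw [hec, map_add, hDw, map_smul, hDy, zero_add, ← hσ]
    have hXu : ∀ z ∈ X, ∀ e : E, hh z (e • u) = 0 := fun z hz e => by
      obtain ⟨f, rfl⟩ := hz.2
      show hh (f • w) (e • u) = 0
      rw [D.h_eq, D.BE_smul_left, D.BE_smul_right, D.BE_symm huw, mul_zero, mul_zero, map_zero]
    have hAD : ∀ x, A₀ (Dm x) = -(hh x d) • c := fun x => by
      rw [hperp (Dm x) fun z hz => by rw [hDm, D.tp_apply]; exact hXu z hz _, hDm, D.tp_skew ha, ← hDm, hDy]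
    have hAd : A₀ d = 0 := by
      rw [hperp d (fun z hz => by rw [hd, hu1, smul_smul]; exact hXu z hz _), UnitaryMax.h_symm D.card hyd, zero_smul]
    refine ⟨hcd, fun s hs => ?_⟩
    set A' : Vs →ₗ[F] Vs := (LinearMap.id + Dm) ∘ₗ (s • A₀) ∘ₗ (LinearMap.id - Dm) with hA'
    have hA'mem : InM M A' := (hA₀mem s hs).conj (hO.T_mem D u ha huu) fun x => by
      simp only [hA', LinearMap.comp_apply, LinearMap.add_apply, LinearMap.sub_apply, LinearMap.id_apply,
        D.T_apply, ← D.tp_apply, ← hDm, map_add, map_sub, show Dm (Dm x) = 0 from D.tp_tp huu a a x, map_zero,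
        add_zero, sub_zero]
      abel
    have hsq : ∀ x, (s • A₀) ((s • A₀) x) = 0 := fun x => by simp [hA₀sq]
    have hprod : ∀ x, A' ((-(s • A₀)) x) = 0 := fun x => by
      simp only [hA', LinearMap.comp_apply, LinearMap.add_apply, LinearMap.sub_apply, LinearMap.id_apply,
        LinearMap.neg_apply, LinearMap.smul_apply, map_neg, map_smul, map_sub, hA₀sq, hDA, hAd, smul_zero, sub_zero,
        add_zero, neg_zero, map_zero, sub_self]
    have h := hA'mem.add ((hA₀mem s hs).neg hsq) hprod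
    convert h using 1
    refine LinearMap.ext fun x => ?_
    simp only [hA', LinearMap.comp_apply, LinearMap.add_apply, LinearMap.sub_apply, LinearMap.id_apply,
      LinearMap.neg_apply, LinearMap.smul_apply, map_sub, map_smul, hAD, hDA, map_neg, hDc, rk1_apply]
    module
  by_cases h2 : q = 2
  · have hσ1 : σ = 1 := (eq_zero_or_one_of_skew D h2 hσs).resolve_left hσ0
    refine root_of_two D h2 D.odd hr3 hO hu10 hu1u (hLiso c (hA₀img x1) c (hA₀img x1))
      (N := p * cj F q p) (fun a ha hat _ => ⟨(hrad a ha hat).1, ?_⟩) hN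
    have h := (hrad a ha hat).2 1 (one_pow q)
    rwa [hσ1, mul_one, one_smul, one_smul] at h
  obtain ⟨a, ha, hat, ha0⟩ : ∃ a ∈ D.skew, tr (a * (p * cj F q p)) = 0 ∧ a ≠ 0 := by
    obtain ⟨z, z', he, hne⟩ : ∃ z z' : D.skew,
        tr ((z : E) * (p * cj F q p)) = tr ((z' : E) * (p * cj F q p)) ∧ z ≠ z' := by
      by_contra hno
      push Not at hno
      have h := Nat.card_le_card_of_injective (fun z : D.skew => tr ((z : E) * (p * cj F q p))) hno
      rw [D.card_skew, Nat.card_eq_fintype_card, D.card] at h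
      have := (Nat.pow_le_pow_iff_right D.two_le).mp h
      omega
    exact ⟨(z : E) - z', sub_mem z.2 z'.2, by rw [sub_mul, map_sub, he, sub_self],
      fun e => hne (Subtype.ext (sub_eq_zero.mp e))⟩
  refine ⟨a • u1, smul_ne_zero ha0 hu10, by rw [D.BE_smul_left, D.BE_smul_right, hu1u, mul_zero, mul_zero],
    root_of_big D h2 hO hσs hσ0 (hLiso c (hA₀img x1) c (hA₀img x1)) (hrad a ha hat).1
      (by rw [D.h_eq, D.BE_smul_left, D.BE_smul_right, hu1u, mul_zero, mul_zero, map_zero]) fun s t hs ht ht0 => ?_⟩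
  have hta : t • a ∈ D.skew := by rw [D.mem_skew, D.cj_smul, ht, D.mem_skew.mp ha, smul_neg]
  have h := (hrad (t • a) hta (by rw [smul_mul_assoc, map_smul, hat, smul_zero])).2 s hs
  convert h using 1
  refine LinearMap.ext fun x => ?_
  simp only [smul_assoc, LinearMap.add_apply, LinearMap.sub_apply, LinearMap.smul_apply, rk1_apply,
    Forms.herm_smul_right D.card, ht]
  module

end Cfsg.Agent.Lib.SUExt
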